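import Cfsg.Agent.TwoGenSolv82.Main
import Mathlib.GroupTheory.Perm.Cycle.Type

/-!
If all solubilizers are subgroups the group is solvable, given that groups of odd order are:
every solubilizer of an involution contains all involutions.

* `solubilizerSubgroups_isSolvable`.
-/

set_option autoImplicit false

namespace CfsgLib.TwoGenSolv82

open Cfsg CfsgLib

universe u

/-- All solubilizers are subgroups. -/
def SolSubgroups (G : Type u) [Group G] : Prop :=
  ∀ x : G, ∃ H : Subgroup G,
    (H : Set G) = {y : G | Group.IsSolvable ↥(Subgroup.closure ({x, y} : Set G))}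

/-- Two involutions generate a solvable subgroup. -/
theorem isSolvable_closure_involutions {G : Type u} [Group G] {s t : G} (hs : s * s = 1)
    (ht : t * t = 1) : Group.IsSolvable (Subgroup.closure ({s, t} : Set G)) := by
  set L := Subgroup.closure ({s, t} : Set G) with hL
  set s' : L := ⟨s, Subgroup.subset_closure (Set.mem_insert _ _)⟩
  set t' : L := ⟨t, Subgroup.subset_closure (Set.mem_insert_of_mem _ rfl)⟩
  have hss : s' * s' = 1 := Subtype.ext hs
  have htt : t' * t' = 1 := Subtype.ext ht
  set C := Subgroup.zpowers (s' * t') with hC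
  have hclo : Subgroup.closure ({s', t'} : Set L) = ⊤ := by
    refine eq_top_iff.2 fun y _ => ?_
    have h1 : (Subgroup.closure ({s', t'} : Set L)).map L.subtype = L := by
      rw [MonoidHom.map_closure, Set.image_pair]; rfl
    obtain ⟨z, hz, hzy⟩ := h1.ge y.2
    rwa [← show z = y from Subtype.ext hzy]
  have hsc : s' * (s' * t') * s'⁻¹ ∈ C := by
    rw [inv_eq_of_mul_eq_one_right hss, ← mul_assoc, hss, one_mul,
      show t' * s' = (s' * t')⁻¹ by
        rw [mul_inv_rev, inv_eq_of_mul_eq_one_right hss, inv_eq_of_mul_eq_one_right htt]]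
    exact inv_mem (Subgroup.mem_zpowers _)
  have htc : t' * (s' * t') * t'⁻¹ ∈ C := by
    rw [inv_eq_of_mul_eq_one_right htt, mul_assoc, mul_assoc, htt, mul_one,
      show t' * s' = (s' * t')⁻¹ by
        rw [mul_inv_rev, inv_eq_of_mul_eq_one_right hss, inv_eq_of_mul_eq_one_right htt]]
    exact inv_mem (Subgroup.mem_zpowers _)
  haveI hCn : C.Normal := by
    refine ⟨fun c hc g => ?_⟩
    have hgen : ∀ v : L, v * (s' * t') * v⁻¹ ∈ C → ∀ c ∈ C, v * c * v⁻¹ ∈ C := fun v hv c hc => by
      obtain ⟨k, rfl⟩ := Subgroup.mem_zpowers_iff.1 hc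
      rw [← conj_zpow]
      exact Subgroup.zpow_mem _ hv k
    suffices h : (∀ c ∈ C, g * c * g⁻¹ ∈ C) ∧ ∀ c ∈ C, g⁻¹ * c * g⁻¹⁻¹ ∈ C from h.1 c hc
    have hg : g ∈ Subgroup.closure ({s', t'} : Set L) := hclo ▸ Subgroup.mem_top g
    induction hg using Subgroup.closure_induction with
    | mem v hv =>
      rcases hv with rfl | rfl
      · exact ⟨hgen _ hsc, by rw [inv_eq_of_mul_eq_one_right hss]; exact hgen _ hsc⟩
      · exact ⟨hgen _ htc, by rw [inv_eq_of_mul_eq_one_right htt]; exact hgen _ htc⟩
    | one => simp
    | mul a b _ _ ha hb =>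
      refine ⟨fun c hc => ?_, fun c hc => ?_⟩
      · simpa [mul_assoc] using ha.1 _ (hb.1 c hc)
      · simpa [mul_assoc] using hb.2 _ (ha.2 c hc)
    | inv a _ ha => exact ⟨ha.2, by rw [inv_inv]; exact ha.1⟩
  refine (Group.isSolvable_iff_subgroup_quotient C).2
    ⟨Group.isSolvable_of_comm fun a b => mul_comm' a b, Group.isSolvable_of_comm fun a b => ?_⟩
  -- the quotient is generated by one element
  have hq : ∀ y : L ⧸ C, y ∈ Subgroup.zpowers (QuotientGroup.mk' C s') := by
    intro y
    obtain ⟨g, rfl⟩ := QuotientGroup.mk'_surjective C y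
    have h2 : Subgroup.closure ({s', t'} : Set L) ≤
        (Subgroup.zpowers (QuotientGroup.mk' C s')).comap (QuotientGroup.mk' C) := by
      rw [Subgroup.closure_le]
      rintro v (rfl | rfl)
      · exact Subgroup.mem_zpowers _
      · have h3 : QuotientGroup.mk' C t' = (QuotientGroup.mk' C s')⁻¹ := by
          rw [← mul_eq_one_iff_eq_inv', ← map_mul]
          exact (QuotientGroup.eq_one_iff _).2 (Subgroup.mem_zpowers _)
        refine Subgroup.mem_comap.2 ?_
        rw [h3]
        exact inv_mem (Subgroup.mem_zpowers _)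
    exact h2 (hclo ▸ Subgroup.mem_top g)
  obtain ⟨i, rfl⟩ := Subgroup.mem_zpowers_iff.1 (hq a)
  obtain ⟨j, rfl⟩ := Subgroup.mem_zpowers_iff.1 (hq b)
  exact zpow_mul_comm _ i j

/-- The hypothesis passes to a quotient by a solvable normal subgroup. -/
theorem SolSubgroups.quotient {G : Type u} [Group G] (h : SolSubgroups G) (N : Subgroup G)
    [N.Normal] (hN : Group.IsSolvable N) : SolSubgroups (G ⧸ N) := by
  intro x
  obtain ⟨a, rfl⟩ := QuotientGroup.mk'_surjective N x
  obtain ⟨H, hH⟩ := h a
  set π := QuotientGroup.mk' N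
  refine ⟨H.map π, Set.ext fun y => ?_⟩
  constructor
  · rintro ⟨b, hb, rfl⟩
    rw [hH] at hb
    haveI : Group.IsSolvable (Subgroup.closure ({a, b} : Set G)) := hb
    show Group.IsSolvable _
    rw [← Set.image_pair, ← MonoidHom.map_closure]
    exact Group.isSolvable_of_surjective (π.subgroupMap_surjective _)
  · intro hy
    obtain ⟨b, rfl⟩ := QuotientGroup.mk'_surjective N y
    refine ⟨b, ?_, rfl⟩
    rw [hH]
    set L := Subgroup.closure ({a, b} : Set G) with hL
    have hmap : L.map π = Subgroup.closure ({π a, π b} : Set (G ⧸ N)) := by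
      rw [hL, MonoidHom.map_closure, Set.image_pair]
    haveI hy' : Group.IsSolvable (L.map π) := hmap ▸ hy
    haveI := hN
    haveI : Group.IsSolvable (N.subgroupOf L) :=
      Group.isSolvable_of_isSolvable_injective
        (f := MonoidHom.mk' (fun z : N.subgroupOf L => (⟨((z : L) : G), z.2⟩ : N)) fun _ _ => rfl)
        (fun u v e => Subtype.ext (Subtype.ext (congrArg (fun w : N => (w : G)) e)))
    exact Group.isSolvable_of_ker_le_range (N.subgroupOf L).subtype (π.subgroupMap L) (fun z hz => by
      rw [Subgroup.range_subtype]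
      exact (QuotientGroup.eq_one_iff (z : G)).1 (congrArg Subtype.val hz))

/-- A finite group all of whose solubilizers are subgroups is solvable, if groups of odd order
are. -/
theorem solubilizerSubgroups_isSolvable
    (hodd : ∀ (G : Type u) [Group G] [Finite G], Odd (Nat.card G) → Group.IsSolvable G)
    {G : Type u} [Group G] [Finite G] (h : SolSubgroups G) : Group.IsSolvable G := by
  suffices key : ∀ (n : ℕ) (G : Type u) [Group G] [Finite G], Nat.card G = n →
      SolSubgroups G → Group.IsSolvable G from key _ G rfl h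
  intro n
  induction n using Nat.strong_induction_on with
  | _ n ih =>
    intro G _ _ hn h
    by_cases heven : Odd (Nat.card G)
    · exact hodd G heven
    haveI : Fact (Nat.Prime 2) := ⟨Nat.prime_two⟩
    obtain ⟨t, ht⟩ := exists_prime_orderOf_dvd_card' 2 (Nat.not_odd_iff_even.1 heven).two_dvd
    set N := Subgroup.closure {s : G | s * s = 1} with hN
    haveI : N.Normal := by
      refine ⟨fun v hv g => ?_⟩
      have hle : N ≤ N.comap (MulAut.conj g).toMonoidHom := (Subgroup.closure_le _).2 fun s hs =>
        Subgroup.subset_closure (by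
          show g * s * g⁻¹ * (g * s * g⁻¹) = 1
          rw [show g * s * g⁻¹ * (g * s * g⁻¹) = g * (s * s) * g⁻¹ by group, (hs : s * s = 1)]
          group)
      exact hle hv
    have hinv : ∀ g ∈ N, ∀ s : G, s * s = 1 →
        Group.IsSolvable (Subgroup.closure ({g, s} : Set G)) := by
      intro g hg s hs
      obtain ⟨H, hH⟩ := h s
      have hNH : N ≤ H := (Subgroup.closure_le _).2 fun r hr => by
        rw [hH]; exact isSolvable_closure_involutions hs hr
      have h1 : g ∈ (H : Set G) := hNH hg
      rw [hH] at h1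
      rw [Set.pair_comm]
      exact h1
    have hNN : ∀ g ∈ N, ∀ k ∈ N, Group.IsSolvable (Subgroup.closure ({g, k} : Set G)) := by
      intro g hg k hk
      obtain ⟨H, hH⟩ := h g
      have hNH : N ≤ H := (Subgroup.closure_le _).2 fun r hr => by rw [hH]; exact hinv g hg r hr
      have h1 : k ∈ (H : Set G) := hNH hk
      rwa [hH] at h1
    have hNs : Group.IsSolvable N := isSolvable_of_pairs fun a b => by
      have hmap : (Subgroup.closure ({a, b} : Set N)).map N.subtype =
          Subgroup.closure ({(a : G), (b : G)} : Set G) := by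
        rw [MonoidHom.map_closure, Set.image_pair]; rfl
      haveI := hNN a a.2 b b.2
      rw [← hmap] at this
      exact Group.isSolvable_of_isSolvable_injective
        (f := (Subgroup.equivMapOfInjective (Subgroup.closure ({a, b} : Set N)) N.subtype
          N.subtype_injective).toMonoidHom) (MulEquiv.injective _)
    refine (Group.isSolvable_iff_subgroup_quotient N).2 ⟨hNs, ih _ ?_ (G ⧸ N) rfl (h.quotient N hNs)⟩
    have htN : t ∈ N := Subgroup.subset_closure (by
      show t * t = 1
      rw [← pow_two, ← ht, pow_orderOf_eq_one])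
    have hN1 : N ≠ ⊥ := fun e => by
      rw [e, Subgroup.mem_bot] at htN
      rw [htN, orderOf_one] at ht
      norm_num at ht
    rw [← hn, Subgroup.card_eq_card_quotient_mul_card_subgroup N]
    exact lt_mul_of_one_lt_right Nat.card_pos (N.one_lt_card_iff_ne_bot.mpr hN1)

end CfsgLib.TwoGenSolv82
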