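import Cfsg.Agent.TwoGenSolv82.Setup

/-!
The functions `χ ↦ χ z / χ 1` on the principal block and their pairwise products: if one of them
multiplies this space into itself then the space contains the indicator of the trivial character,
and the normalizer of `P` acts freely.

* `Ctx.mul_mem_prodSpan`, `Ctx.frob_of_multiplier`.
-/

set_option autoImplicit false

namespace CfsgLib.TwoGenSolv82

open Cfsg CfsgLib
open CfsgLib.Blocks CfsgLib.Blocks.AbelianFrobenius CfsgLib.ConjFunctor.CyclicPairs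
open scoped ComplexConjugate

universe u

variable {G : Type u} [Group G] [Fintype G] {p : ℕ} [hp : Fact p.Prime] {P : Sylow p G}
  {M : Ideal AlgInt}

/-- The normalised column of an element, on the principal block. -/
noncomputable def normCol (M : Ideal AlgInt) (a : G) : ↥(block G M) → ℂ := fun χ =>
  ((χ : IrrCharacter G) : G → ℂ) a / ((χ : IrrCharacter G) : G → ℂ) 1

omit hp in
theorem normCol_congr {a b : G} (h : IsConj a b) : normCol M a = normCol M b := by
  obtain ⟨c, rfl⟩ := isConj_iff.1 h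
  funext χ
  rw [normCol, normCol, Chars.isClassFunction_coe (χ : IrrCharacter G) a c]

theorem isConj_inv_inv {H : Type*} [Group H] {u v : H} (h : IsConj u v) : IsConj u⁻¹ v⁻¹ := by
  obtain ⟨c, rfl⟩ := isConj_iff.1 h
  exact isConj_iff.2 ⟨c, by group⟩

omit hp in
/-- Multiplication rule of normalised columns. -/
theorem normCol_mul (a b : G) : normCol M a * normCol M b =
    (Nat.card G : ℂ)⁻¹ • ∑ g : G, normCol M (g * a * g⁻¹ * b) := by
  funext χ
  have hne := irrCharacter_one_ne_zero (χ : IrrCharacter G)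
  have hcard : (Nat.card G : ℂ) ≠ 0 := by exact_mod_cast Nat.card_pos.ne'
  simp only [Pi.mul_apply, Pi.smul_apply, Finset.sum_apply, normCol, smul_eq_mul]
  rw [← Finset.sum_div, sum_irrCharacter_conj_mul (χ : IrrCharacter G) b a]
  field_simp

namespace Ctx

variable [IsSimpleGroup G] [hab : IsMulCommutative (P : Subgroup G)]

omit hab in
/-- A singular product of two elements of order `p` behaves as an element of `P`. -/
theorem exists_mem_of_singular (hC : Ctx P M) {c b : G} (hc : c ^ p = 1) (hb : b ^ p = 1)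
    (hs : p ∣ orderOf (c * b)) :
    ∃ v z : G, IsPPart p (c * b) v ∧ IsConj v z ∧ z ∈ (P : Subgroup G) ∧ z ≠ 1 ∧
      ∀ χ ∈ block G M, (χ : G → ℂ) (c * b) = (χ : G → ℂ) z := by
  obtain ⟨v, hv⟩ := exists_isPPart (G := G) hp.out (c * b)
  have hv1 : v ≠ 1 := (dvd_orderOf_iff hv).1 hs
  obtain ⟨k, hk, -, -⟩ := orderOf_eq_mul_of_isPPart hv
  obtain ⟨g, hg⟩ := exists_conj_mem (P := P) hk
  refine ⟨v, g * v * g⁻¹, hv, isConj_iff.2 ⟨g, rfl⟩, hg, fun h => hv1 (conj_eq_one_iff.1 h),
    fun χ hχ => ?_⟩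
  rw [hC.pure c b v hc hb hv hv1 χ hχ, Chars.isClassFunction_coe χ v g]

omit hab in
theorem conj_pow_eq_one (hC : Ctx P M) {a : G} (ha : a ∈ (P : Subgroup G)) (g : G) :
    (g * a * g⁻¹) ^ p = 1 := by rw [conj_pow, hC.exp a ha, mul_one, mul_inv_cancel]

/-- The span of the normalised columns of the non-identity elements of `P`. -/
noncomputable def colSpan (_ : Ctx P M) : Submodule ℂ (↥(block G M) → ℂ) :=
  Submodule.span ℂ {F | ∃ a ∈ (P : Subgroup G), a ≠ 1 ∧ F = normCol M a}

/-- With the products of two of them. -/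
noncomputable def prodSpan (_ : Ctx P M) : Submodule ℂ (↥(block G M) → ℂ) :=
  Submodule.span ℂ ({F | ∃ a ∈ (P : Subgroup G), a ≠ 1 ∧ F = normCol M a} ∪
    {F | ∃ a ∈ (P : Subgroup G), a ≠ 1 ∧ ∃ b ∈ (P : Subgroup G), b ≠ 1 ∧
      F = normCol M a * normCol M b})

theorem mul_mem_colSpan (hC : Ctx P M) {a b : G} (ha : a ∈ (P : Subgroup G))
    (hb : b ∈ (P : Subgroup G)) (hab' : ¬ IsConj a b⁻¹) :
    normCol M a * normCol M b ∈ hC.colSpan := by
  rw [normCol_mul]
  refine Submodule.smul_mem _ _ (Submodule.sum_mem _ fun g _ => ?_)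
  have hs : p ∣ orderOf (g * a * g⁻¹ * b) := by
    by_contra h
    exact hab' ((isConj_iff.2 ⟨g, rfl⟩ : IsConj a (g * a * g⁻¹)).trans
      (hC.isConj_of_regular (hC.conj_pow_eq_one ha g) (hC.exp b hb) h))
  obtain ⟨v, z, -, -, hz, hz1, hval⟩ :=
    hC.exists_mem_of_singular (hC.conj_pow_eq_one ha g) (hC.exp b hb) hs
  refine Submodule.subset_span ⟨z, hz, hz1, funext fun χ => ?_⟩
  rw [normCol, normCol, hval χ χ.2]

omit hab in
theorem colSpan_mul_colSpan (hC : Ctx P M) {F H : ↥(block G M) → ℂ} (hF : F ∈ hC.colSpan)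
    (hH : H ∈ hC.colSpan) : F * H ∈ hC.prodSpan := by
  induction hF using Submodule.span_induction with
  | mem F hF =>
    obtain ⟨a, ha, ha1, rfl⟩ := hF
    induction hH using Submodule.span_induction with
    | mem H hH =>
      obtain ⟨b, hb, hb1, rfl⟩ := hH
      exact Submodule.subset_span (Or.inr ⟨a, ha, ha1, b, hb, hb1, rfl⟩)
    | zero => rw [mul_zero]; exact zero_mem _
    | add x y _ _ hx hy => rw [mul_add]; exact add_mem hx hy
    | smul c x _ hx => rw [mul_smul_comm]; exact Submodule.smul_mem _ c hx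
  | zero => rw [zero_mul]; exact zero_mem _
  | add x y _ _ hx hy => rw [add_mul]; exact add_mem hx hy
  | smul c x _ hx => rw [smul_mul_assoc]; exact Submodule.smul_mem _ c hx

omit hab in
theorem normCol_mem_colSpan (hC : Ctx P M) {a : G} (ha : a ∈ (P : Subgroup G)) (ha1 : a ≠ 1) :
    normCol M a ∈ hC.colSpan :=
  Submodule.subset_span ⟨a, ha, ha1, rfl⟩

/-- The functions spanned are stable under multiplication by the column of `x` if `x` is not
real, or occurs in the product of two classes which are not inverse and differ from its own. -/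
theorem mul_mem_prodSpan (hC : Ctx P M) {x : G} (hx : x ∈ (P : Subgroup G)) (hx1 : x ≠ 1)
    (htri : IsConj x x⁻¹ → ∃ j ∈ (P : Subgroup G), ∃ k ∈ (P : Subgroup G), ¬ IsConj j k⁻¹ ∧
      ¬ IsConj j x ∧ ¬ IsConj k x ∧ ∃ g v : G, IsPPart p (g * j * g⁻¹ * k) v ∧ IsConj v x)
    {F : ↥(block G M) → ℂ} (hF : F ∈ hC.prodSpan) : normCol M x * F ∈ hC.prodSpan := by
  classical
  induction hF using Submodule.span_induction with
  | mem F hF =>
    rcases hF with ⟨a, ha, ha1, rfl⟩ | ⟨a, ha, ha1, b, hb, hb1, rfl⟩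
    · exact colSpan_mul_colSpan hC (hC.normCol_mem_colSpan hx hx1) (hC.normCol_mem_colSpan ha ha1)
    by_cases h1 : IsConj x a⁻¹
    swap
    · rw [← mul_assoc]
      exact colSpan_mul_colSpan hC (hC.mul_mem_colSpan hx ha h1) (hC.normCol_mem_colSpan hb hb1)
    by_cases h2 : IsConj x b⁻¹
    swap
    · rw [mul_left_comm]
      exact colSpan_mul_colSpan hC (hC.normCol_mem_colSpan ha ha1) (hC.mul_mem_colSpan hx hb h2)
    by_cases h3 : IsConj a b⁻¹
    swap
    · exact colSpan_mul_colSpan hC (hC.normCol_mem_colSpan hx hx1) (hC.mul_mem_colSpan ha hb h3)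
    -- all three are conjugate to `x`, which is real
    have hax : IsConj a x := h3.trans h2.symm
    have hxr : IsConj x x⁻¹ := h1.trans (isConj_inv_inv hax)
    have hbx : IsConj b x := by
      have := (isConj_inv_inv h2).symm
      rw [inv_inv] at this
      exact this.trans hxr.symm
    rw [normCol_congr hax, normCol_congr hbx]
    obtain ⟨j, hj, k, hk, hjk, hjx, hkx, g₀, v₀, hv₀, hvx₀⟩ := htri hxr
    have hnr : ∀ {l : G}, ¬ IsConj l x → ¬ IsConj l x⁻¹ := fun h h' => h (h'.trans hxr.symm)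
    set E := normCol M x * normCol M x with hE
    set h : G → G := fun g => g * j * g⁻¹ * k with hh
    set Q := Finset.univ.filter fun g : G => ∃ v, IsPPart p (h g) v ∧ IsConj v x with hQ
    have hterm : ∀ g : G, ∃ v z : G, IsPPart p (h g) v ∧ IsConj v z ∧ z ∈ (P : Subgroup G) ∧
        z ≠ 1 ∧ normCol M (h g) = normCol M z := by
      intro g
      have hs : p ∣ orderOf (h g) := by
        by_contra hreg
        exact hjk ((isConj_iff.2 ⟨g, rfl⟩ : IsConj j (g * j * g⁻¹)).trans
          (hC.isConj_of_regular (hC.conj_pow_eq_one hj g) (hC.exp k hk) hreg))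
      obtain ⟨v, z, hv, hvz, hz, hz1, hval⟩ :=
        hC.exists_mem_of_singular (hC.conj_pow_eq_one hj g) (hC.exp k hk) hs
      exact ⟨v, z, hv, hvz, hz, hz1, funext fun χ => by rw [normCol, normCol, hval χ χ.2]⟩
    have hin : ∀ g ∈ Q, normCol M (h g) = normCol M x := by
      intro g hg
      obtain ⟨v, z, hv, hvz, -, -, he⟩ := hterm g
      obtain ⟨w, hw, hwx⟩ := (Finset.mem_filter.1 hg).2
      rw [he, normCol_congr (hvz.symm.trans (isPPart_unique hp.out hv hw ▸ hwx))]
    have hout : ∀ g ∈ Finset.univ.filter fun g : G => ¬ ∃ v, IsPPart p (h g) v ∧ IsConj v x,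
        normCol M (h g) * E ∈ hC.prodSpan := by
      intro g hg
      obtain ⟨v, z, hv, hvz, hz, hz1, he⟩ := hterm g
      rw [he, hE, ← mul_assoc]
      exact colSpan_mul_colSpan hC (hC.mul_mem_colSpan hz hx
        (hnr fun e => (Finset.mem_filter.1 hg).2 ⟨v, hv, hvz.trans e⟩))
        (hC.normCol_mem_colSpan hx hx1)
    have hall : (∑ g, normCol M (h g)) * E ∈ hC.prodSpan := by
      have h0 : normCol M j * normCol M k * E ∈ hC.prodSpan := by
        rw [hE, mul_mul_mul_comm]
        exact colSpan_mul_colSpan hC (hC.mul_mem_colSpan hj hx (hnr hjx))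
          (hC.mul_mem_colSpan hk hx (hnr hkx))
      rw [normCol_mul, smul_mul_assoc] at h0
      have hne : (Nat.card G : ℂ)⁻¹ ≠ 0 := inv_ne_zero (by exact_mod_cast Nat.card_pos.ne')
      exact (Submodule.smul_mem_iff _ hne).1 h0
    rw [Finset.sum_mul, ← Finset.sum_filter_add_sum_filter_not Finset.univ
      (fun g : G => ∃ v, IsPPart p (h g) v ∧ IsConj v x), ← hQ] at hall
    have h5 := (Submodule.add_mem_iff_left _ (Submodule.sum_mem _ hout)).1 hall
    rw [Finset.sum_congr rfl fun g hg => by rw [hin g hg], Finset.sum_const,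
      ← Nat.cast_smul_eq_nsmul ℂ] at h5
    have hQ0 : (Q.card : ℂ) ≠ 0 := Nat.cast_ne_zero.2 (Finset.card_ne_zero.2
      ⟨g₀, Finset.mem_filter.2 ⟨Finset.mem_univ _, v₀, hv₀, hvx₀⟩⟩)
    exact (Submodule.smul_mem_iff _ hQ0).1 h5
  | zero => rw [mul_zero]; exact zero_mem _
  | add u v _ _ hu hv => rw [mul_add]; exact add_mem hu hv
  | smul c u _ hu => rw [mul_smul_comm]; exact Submodule.smul_mem _ c hu

open scoped Classical in
/-- A multiplier forces the normalizer to act freely. -/
theorem frob_of_multiplier (hC : Ctx P M) {x : G} (hx : x ∈ (P : Subgroup G)) (hx1 : x ≠ 1)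
    (hmul : ∀ F ∈ hC.prodSpan, normCol M x * F ∈ hC.prodSpan) : Frob P := by
  intro y hy hy1
  refine le_antisymm (fun n hn => ?_) (le_inf (Subgroup.centralizer_le (Set.singleton_subset_iff.2 hy))
    (Subgroup.centralizer_le_normalizer _))
  by_contra hnC
  -- the part of order prime to `p`
  obtain ⟨w, hw⟩ := exists_isPPart (G := G) hp.out n
  obtain ⟨t, hwt, hwcomm, ⟨i, hi⟩, ht⟩ := hw
  have hny : Commute n y := Subgroup.mem_centralizer_singleton_iff.1 hn.1
  obtain ⟨m, hm⟩ := exists_pow_eq_isPPart (G := G) hp.out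
  have hwn : w = n ^ _ := (hm n w ⟨t, hwt, hwcomm, ⟨i, hi⟩, ht⟩).symm
  have hwN : w ∈ Subgroup.normalizer ((P : Subgroup G) : Set G) := hwn ▸ pow_mem hn.2 _
  have hwP : w ∈ (P : Subgroup G) := by
    haveI := Fintype.ofFinite (Subgroup.normalizer ((P : Subgroup G) : Set G))
    let P' : Sylow p (Subgroup.normalizer ((P : Subgroup G) : Set G)) :=
      P.subtype Subgroup.le_normalizer
    haveI : ((P' : Subgroup (Subgroup.normalizer ((P : Subgroup G) : Set G)))).Normal :=
      Subgroup.normal_in_normalizer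
    obtain ⟨Q, hQ⟩ := (isPGroup_zpowers (p := p)
      (c := (⟨w, hwN⟩ : Subgroup.normalizer ((P : Subgroup G) : Set G))) (k := i)
      (by rw [← hi, ← Subgroup.orderOf_coe])).exists_le_sylow
    obtain ⟨g, hg⟩ := MulAction.exists_smul_eq
      ↥(Subgroup.normalizer ((P : Subgroup G) : Set G)) P' Q
    rw [Sylow.smul_eq_of_normal] at hg
    have := hQ (Subgroup.mem_zpowers _)
    rw [← hg] at this
    exact this
  have hwc : w ∈ Subgroup.centralizer ((P : Subgroup G) : Set G) :=
    Subgroup.mem_centralizer_iff.2 fun z hz =>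
      congrArg Subtype.val (mul_comm' (⟨z, hz⟩ : (P : Subgroup G)) ⟨w, hwP⟩)
  have htn : t = w⁻¹ * n := by rw [← hwt, inv_mul_cancel_left]
  have htN : t ∈ Subgroup.normalizer ((P : Subgroup G) : Set G) :=
    htn ▸ mul_mem (inv_mem hwN) hn.2
  have hty : t ∈ Subgroup.centralizer ({y} : Set G) := htn ▸ mul_mem
    (inv_mem (Subgroup.centralizer_le (Set.singleton_subset_iff.2 hy) hwc)) hn.1
  have htC : t ∉ Subgroup.centralizer ((P : Subgroup G) : Set G) := fun h =>
    hnC (hwt ▸ mul_mem hwc h)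
  -- the functional
  set D := ∑ χ ∈ block G M, (χ : G → ℂ) y * conj ((χ : G → ℂ) y) with hD
  set Φ := ∑ χ ∈ block G M, (χ : G → ℂ) y * conj ((χ : G → ℂ) (y * t)) with hΦ
  set v : IrrCharacter G → ℂ := fun χ =>
    D * conj ((χ : G → ℂ) (y * t)) - Φ * conj ((χ : G → ℂ) y) with hv
  obtain ⟨k, hk⟩ := orderOf_eq_pow (hC.exp y hy)
  have hyt : Commute y t := (Subgroup.mem_centralizer_singleton_iff.1 hty).symm
  have hpyt : IsPPart p (y * t) y := ⟨t, rfl, hyt, ⟨k, hk⟩, ht⟩
  have hpy : IsPPart p y y := isPPart_of_pow hk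
  have hzero : ∀ c b : G, c ^ p = 1 → b ^ p = 1 →
      ∑ χ ∈ block G M, (χ : G → ℂ) (c * b) * v χ = 0 := by
    intro c b hc hb
    simp only [hv, mul_sub, Finset.sum_sub_distrib, mul_left_comm _ D, mul_left_comm _ Φ,
      ← Finset.mul_sum]
    by_cases hs : p ∣ orderOf (c * b)
    swap
    · rw [hC.sum_eq_zero_of_regular hs ((dvd_orderOf_iff hpyt).2 hy1),
        hC.sum_eq_zero_of_regular hs ((dvd_orderOf_iff hpy).2 hy1), mul_zero, mul_zero, sub_zero]
    obtain ⟨z, hz⟩ := exists_isPPart (G := G) hp.out (c * b)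
    by_cases hzy : IsConj y z
    swap
    · rw [hC.sum_eq_zero_of_pPart hz hpyt hzy, hC.sum_eq_zero_of_pPart hz hpy hzy, mul_zero,
        mul_zero, sub_zero]
    obtain ⟨g, rfl⟩ := isConj_iff.1 hzy
    have hz1 : g * y * g⁻¹ ≠ 1 := fun h => hy1 (conj_eq_one_iff.1 h)
    have hval : ∀ χ ∈ block G M, (χ : G → ℂ) (c * b) = (χ : G → ℂ) y := fun χ hχ => by
      rw [hC.pure c b _ hc hb hz hz1 χ hχ, Chars.isClassFunction_coe χ y g]
    rw [Finset.sum_congr rfl fun χ hχ => by rw [hval χ hχ],
      Finset.sum_congr rfl (s₁ := block G M)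
        (f := fun χ => (χ : G → ℂ) (c * b) * conj ((χ : G → ℂ) y))
        (g := fun χ => (χ : G → ℂ) y * conj ((χ : G → ℂ) y)) fun χ hχ => by rw [hval χ hχ],
      ← hΦ, ← hD]
    ring
  let T : (↥(block G M) → ℂ) →ₗ[ℂ] ℂ :=
    { toFun := fun F => ∑ χ : ↥(block G M),
        ((χ : IrrCharacter G) : G → ℂ) 1 * v χ * F χ
      map_add' := fun F H => by simp only [Pi.add_apply, mul_add, Finset.sum_add_distrib]
      map_smul' := fun c F => by
        simp only [Pi.smul_apply, smul_eq_mul, RingHom.id_apply, Finset.mul_sum]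
        exact Finset.sum_congr rfl fun χ _ => by ring }
  have hTcol : ∀ g : G, T (normCol M g) = ∑ χ ∈ block G M, (χ : G → ℂ) g * v χ := by
    intro g
    rw [← Finset.sum_coe_sort (block G M)]
    refine Finset.sum_congr rfl fun χ _ => ?_
    simp only [normCol]
    field_simp [irrCharacter_one_ne_zero (χ : IrrCharacter G)]
  have hT : hC.prodSpan ≤ LinearMap.ker T := by
    refine Submodule.span_le.2 ?_
    rintro F (⟨a, ha, -, rfl⟩ | ⟨a, ha, -, b, hb, -, rfl⟩) <;>
      rw [SetLike.mem_coe, LinearMap.mem_ker]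
    · rw [hTcol]
      simpa using hzero a 1 (hC.exp a ha) (one_pow p)
    · rw [normCol_mul, map_smul, map_sum, Finset.sum_eq_zero fun g _ => by
        rw [hTcol]; exact hzero _ b (hC.conj_pow_eq_one ha g) (hC.exp b hb), smul_zero]
  -- the indicator of the trivial character
  have hpoly : ∀ s : Finset ℂ,
      (fun χ => normCol M x χ * ∏ c ∈ s, (normCol M x χ - c)) ∈ hC.prodSpan := by
    intro s
    induction s using Finset.induction_on with
    | empty =>
      simp only [Finset.prod_empty, mul_one]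
      exact Submodule.subset_span (Or.inl ⟨x, hx, hx1, rfl⟩)
    | insert c s hcs ih =>
      have h := sub_mem (hmul _ ih) (Submodule.smul_mem hC.prodSpan c ih)
      refine (congrArg (· ∈ hC.prodSpan) (funext fun χ => ?_)).mp h
      simp only [Pi.sub_apply, Pi.mul_apply, Pi.smul_apply, smul_eq_mul, Finset.prod_insert hcs]
      ring
  have honeB : Chars.oneChar G ∈ block G M := by
    have := isMaximal_of_isPModular hC.modular
    exact mem_block.2 oneChar_mem_principalBlock
  set one : ↥(block G M) := ⟨Chars.oneChar G, honeB⟩ with hone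
  set s := (Finset.univ.filter fun χ : ↥(block G M) => χ ≠ one).image (normCol M x) with hs
  have hx_one : normCol M x one = 1 := by simp [normCol, hone, Chars.oneChar_apply]
  have hns : (1 : ℂ) ∉ s := by
    rw [hs, Finset.mem_image]
    rintro ⟨χ, hχ, he⟩
    refine apply_ne_map_one (fun e => (Finset.mem_filter.1 hχ).2 (Subtype.ext e)) hx1 ?_
    rwa [normCol, div_eq_one_iff_eq (irrCharacter_one_ne_zero _)] at he
  have h := LinearMap.mem_ker.1 (hT (hpoly s))
  change ∑ χ : ↥(block G M), ((χ : IrrCharacter G) : G → ℂ) 1 * v χ *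
    (normCol M x χ * ∏ c ∈ s, (normCol M x χ - c)) = 0 at h
  rw [Finset.sum_eq_single one (fun χ _ hne => by
      rw [Finset.prod_eq_zero (i := normCol M x χ)
        (Finset.mem_image_of_mem _ (Finset.mem_filter.2 ⟨Finset.mem_univ _, hne⟩)) (sub_self _),
        mul_zero, mul_zero])
    (fun hne => absurd (Finset.mem_univ _) hne), hx_one] at h
  have hne : ∏ c ∈ s, ((1 : ℂ) - c) ≠ 0 :=
    Finset.prod_ne_zero_iff.2 fun c hc => sub_ne_zero.2 fun e => hns (e ▸ hc)
  have h' := (mul_eq_zero.1 h).resolve_right (by simpa using hne)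
  have h'' : D - Φ = 0 := by simpa [hv, hone, Chars.oneChar_apply] using h'
  have htθ := hC.detect y hy hy1 t hty ht (by rw [← hΦ, ← hD]; exact (sub_eq_zero.1 h'').symm)
  -- an element of the core normalizing `P` centralizes it
  refine htC (Subgroup.mem_centralizer_iff.2 fun z hz => ?_)
  rw [centralizerPPrimeCore, Subgroup.mem_map] at htθ
  set C := Subgroup.centralizer ({y} : Set G) with hCdef
  obtain ⟨t', ht', htt⟩ := htθ
  subst htt
  have hzC : z ∈ C := Subgroup.mem_centralizer_singleton_iff.2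
    (congrArg Subtype.val (mul_comm' (⟨z, hz⟩ : (P : Subgroup G)) ⟨y, hy⟩))
  set c : C := ⟨z, hzC⟩ * t' * (⟨z, hzC⟩ : C)⁻¹ * t'⁻¹ with hc
  have h1 : c ∈ pPrimeCore p C := mul_mem
    ((inferInstance : (pPrimeCore p C).Normal).conj_mem t' ht' _) (inv_mem ht')
  have h2 : (c : G) ∈ (P : Subgroup G) := by
    have := mul_mem hz ((Subgroup.mem_normalizer_iff.1 htN z⁻¹).1 (inv_mem hz))
    simpa [hc, mul_assoc] using this
  obtain ⟨l, hl⟩ := orderOf_eq_pow_of_mem P.2 h2
  have h3 := eq_one_of_mem_of_pow Constrained.pPrimeCore_not_dvd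
    (by rw [← Subgroup.orderOf_coe]; exact hl) h1
  have h4 : z * (t' : G) * z⁻¹ * (t' : G)⁻¹ = 1 := by
    simpa [hc] using congrArg Subtype.val h3
  rw [mul_inv_eq_one, mul_inv_eq_iff_eq_mul] at h4
  exact h4

end Ctx

end CfsgLib.TwoGenSolv82
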