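import Cfsg.Agent.Eq.Def_Local
import Cfsg.Agent.Constrained.PSolvable
import Cfsg.Agent.Constrained.HallHigman
import Cfsg.Agent.Blocks.Orth.Subsection
import Cfsg.Agent.Chars.Apps.Burnside
import Cfsg.Agent.ConjFunctor.CyclicPairs.Main

/-!
Minimal groups in which every two elements generate a solvable subgroup: first reductions, and
facts about elements with the same image modulo a normal subgroup of order prime to `p`.

* `TwoGenMin`: the hypotheses on the minimal counterexample;
* `isConj_of_mk_eq`: two `p`-elements with the same image modulo a `p'`-subgroup are conjugate;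
* `exists_prime_five_le`, `not_isCyclic_sylow`.
-/

set_option autoImplicit false

namespace CfsgLib.TwoGenSolv82

open Cfsg CfsgLib

/-- The hypotheses on a minimal counterexample. -/
structure TwoGenMin (G : Type*) [Group G] : Prop where
  pairs : ∀ a b : G, Group.IsSolvable (Subgroup.closure ({a, b} : Set G))
  proper : ∀ H : Subgroup G, H ≠ ⊤ → Group.IsSolvable H
  not_solvable : ¬ Group.IsSolvable G

variable {G : Type*} [Group G] [Finite G] {p : ℕ} [hp : Fact p.Prime]

omit [Finite G] in
theorem orderOf_eq_pow_of_mem {H : Subgroup G} (hH : IsPGroup p H) {c : G} (hc : c ∈ H) :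
    ∃ k : ℕ, orderOf c = p ^ k := by
  obtain ⟨k, hk⟩ := hH ⟨c, hc⟩
  have h : orderOf c ∣ p ^ k := orderOf_dvd_of_pow_eq_one (congrArg Subtype.val hk)
  obtain ⟨e, -, he⟩ := (Nat.dvd_prime_pow hp.out).1 h
  exact ⟨e, he⟩

omit [Finite G] in
theorem isPGroup_zpowers {c : G} {k : ℕ} (hc : orderOf c = p ^ k) :
    IsPGroup p (Subgroup.zpowers c) :=
  IsPGroup.of_card (n := k) (by rw [Nat.card_zpowers, hc])

omit [Finite G] in
theorem isPPart_of_pow {c : G} {k : ℕ} (hc : orderOf c = p ^ k) : IsPPart p c c :=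
  ⟨1, mul_one _, Commute.one_right _, ⟨k, hc⟩, by simpa using hp.out.ne_one⟩

/-- A `p`-element in the coset of a `p'`-subgroup containing the unit is the unit. -/
theorem eq_one_of_mem_of_pow {N : Subgroup G} (hN : ¬ p ∣ Nat.card N) {c : G} {k : ℕ}
    (hc : orderOf c = p ^ k) (hcN : c ∈ N) : c = 1 := by
  have h : orderOf c ∣ Nat.card N := by
    rw [← Subgroup.orderOf_mk c hcN]; exact orderOf_dvd_natCard _
  refine orderOf_eq_one_iff.1 (Nat.eq_one_of_dvd_coprimes
    (((hp.out.coprime_iff_not_dvd).2 hN).pow_left k) hc.dvd h)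

/-- Two `p`-elements with the same image modulo a normal `p'`-subgroup are conjugate. -/
theorem isConj_of_mk_eq {N : Subgroup G} [N.Normal] (hN : ¬ p ∣ Nat.card N) {r c : G} {i j : ℕ}
    (hr : orderOf r = p ^ i) (hc : orderOf c = p ^ j) (h : (r : G ⧸ N) = c) :
    ∃ g : G, g * r * g⁻¹ = c := by
  classical
  set π := QuotientGroup.mk' N with hπ
  set X := N ⊔ Subgroup.zpowers c with hX
  have hcX : c ∈ X := Subgroup.mem_sup_right (Subgroup.mem_zpowers c)
  have hrX : r ∈ X := by
    have h1 : c⁻¹ * r ∈ N := QuotientGroup.eq.1 h.symm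
    have := mul_mem hcX (Subgroup.mem_sup_left (T := Subgroup.zpowers c) h1)
    rwa [mul_inv_cancel_left] at this
  -- the subgroup generated by `c` is a Sylow subgroup of `X`
  let Y : Subgroup X := (Subgroup.zpowers c).subgroupOf X
  have hYp : IsPGroup p Y := (isPGroup_zpowers hc).comap_of_injective _ X.subtype_injective
  have hidx : ¬ p ∣ Y.index := by
    intro hd
    have h1 : Y.index = (Subgroup.zpowers c).relIndex X := rfl
    have e1 := Subgroup.relIndex_mul_relIndex ⊥ (Subgroup.zpowers c) X bot_le le_sup_right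
    have e2 := Subgroup.relIndex_mul_relIndex ⊥ N X bot_le le_sup_left
    rw [hX, Subgroup.relIndex_sup_left, Subgroup.relIndex_bot_left, ← hX] at e2
    rw [Subgroup.relIndex_bot_left] at e1
    obtain ⟨t, ht⟩ := Subgroup.relIndex_dvd_card N (Subgroup.zpowers c)
    refine hN (hd.trans ⟨t, ?_⟩)
    have hr0 : 0 < N.relIndex (Subgroup.zpowers c) :=
      Nat.pos_of_ne_zero fun e => Nat.card_pos.ne' (by rw [ht, e, zero_mul])
    refine Nat.eq_of_mul_eq_mul_right hr0 ?_
    rw [h1, e2, ← e1, ht]
    ring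
  have hYc : ∀ S : Sylow p X, Y ≤ (S : Subgroup X) → (S : Subgroup X) = Y := fun S hS =>
    (hYp.toSylow hidx).is_maximal' S.2 (by simpa using hS)
  let S₀ : Sylow p X := hYp.toSylow hidx
  obtain ⟨S₁, hS₁⟩ := ((isPGroup_zpowers (p := p) (c := (⟨r, hrX⟩ : X)) (k := i)
    (by rw [← hr, ← Subgroup.orderOf_coe]))).exists_le_sylow
  obtain ⟨x, hx⟩ := MulAction.exists_smul_eq X S₁ S₀
  have hmem : (x : G) * r * (x : G)⁻¹ ∈ Subgroup.zpowers c := by
    have h2 : (MulAut.conj x).toMonoidHom ⟨r, hrX⟩ ∈ (S₀ : Subgroup X) := by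
      rw [← hx, Sylow.smul_def]
      exact ⟨_, hS₁ (Subgroup.mem_zpowers _), rfl⟩
    have h3 : (x * ⟨r, hrX⟩ * x⁻¹ : X) ∈ Y := by simpa [S₀] using h2
    exact h3
  refine ⟨x, ?_⟩
  -- images of the two elements agree, as the image of `X` is abelian
  obtain ⟨n, hn⟩ := Subgroup.mem_zpowers_iff.1 hmem
  have hXc : X.map π ≤ Subgroup.zpowers (π c) := by
    rw [hX, Subgroup.map_sup, MonoidHom.map_zpowers, sup_le_iff]
    refine ⟨fun y hy => ?_, le_rfl⟩
    obtain ⟨y, hy, rfl⟩ := hy
    rw [hπ, show QuotientGroup.mk' N y = 1 from (QuotientGroup.eq_one_iff y).2 hy]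
    exact one_mem _
  have himg : π ((x : G) * r * (x : G)⁻¹) = π c := by
    obtain ⟨a, ha⟩ := Subgroup.mem_zpowers_iff.1 (hXc ⟨x, x.2, rfl⟩)
    rw [map_mul, map_mul, map_inv, ← ha, show π r = π c from h]
    group
  have hdiff : ((x : G) * r * (x : G)⁻¹) * c⁻¹ ∈ N := by
    rw [← QuotientGroup.eq_one_iff, ← QuotientGroup.mk'_apply, map_mul, map_inv, himg, mul_inv_cancel]
  have hmem' : ((x : G) * r * (x : G)⁻¹) * c⁻¹ ∈ Subgroup.zpowers c :=
    mul_mem hmem (inv_mem (Subgroup.mem_zpowers c))
  obtain ⟨k, hk⟩ := orderOf_eq_pow_of_mem (isPGroup_zpowers hc) hmem'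
  exact mul_inv_eq_one.1 (eq_one_of_mem_of_pow hN hk hdiff)

omit [Finite G] in
theorem solvable_pairs_subgroup (h : ∀ a b : G, Group.IsSolvable (Subgroup.closure ({a, b} : Set G)))
    (H : Subgroup G) (a b : H) : Group.IsSolvable (Subgroup.closure ({a, b} : Set H)) := by
  have hmap : (Subgroup.closure ({a, b} : Set H)).map H.subtype =
      Subgroup.closure ({(a : G), (b : G)} : Set G) := by
    rw [MonoidHom.map_closure, Set.image_pair]; rfl
  haveI := h (a : G) (b : G)
  rw [← hmap] at this
  exact Group.isSolvable_of_isSolvable_injective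
    (f := (Subgroup.equivMapOfInjective (Subgroup.closure ({a, b} : Set H)) H.subtype
      H.subtype_injective).toMonoidHom) (MulEquiv.injective _)

namespace TwoGenMin

omit [Finite G] in
theorem not_commutative (h : TwoGenMin G) : ¬ IsMulCommutative G := fun hc =>
  h.not_solvable (Group.isSolvable_of_comm fun a b => hc.is_comm.comm a b)

/-- A prime at least five dividing the order. -/
theorem exists_prime_five_le (h : TwoGenMin G) :
    ∃ q : ℕ, q.Prime ∧ 5 ≤ q ∧ q ∣ Nat.card G := by
  by_contra hcon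
  push Not at hcon
  refine h.not_solvable (CfsgLib.Chars.Apps.isSolvable_of_primeFactors_subset G Nat.prime_two
    Nat.prime_three fun r hr hd => ?_)
  have := hr.two_le
  by_contra hne
  push Not at hne
  have h4 : r ≠ 4 := fun e => by subst e; norm_num at hr
  exact hcon r hr (by omega) hd

variable [IsSimpleGroup G]

/-- No prime at least five has a cyclic Sylow subgroup. -/
theorem not_isCyclic_sylow (h : TwoGenMin G) (P : Sylow p G) (hdvd : p ∣ Nat.card G) :
    ¬ IsCyclic (P : Subgroup G) := by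
  intro hP
  have hsol : IsPSolvable p G :=
    CfsgLib.ConjFunctor.CyclicPairs.isPSolvable_of_pairs P hP fun x y _ _ => by
      haveI := h.pairs x y
      exact Constrained.isPSolvable_of_isSolvable
  rcases Constrained.IsPSolvable.core_ne_bot hsol with hc | hc
  · have htop : pCore p G = ⊤ :=
      ((inferInstance : (pCore p G).Normal).eq_bot_or_eq_top).resolve_left hc
    have hpg : IsPGroup p G := by
      intro g
      obtain ⟨k, hk⟩ := Constrained.isPGroup_pCore (p := p) (G := G) ⟨g, htop ▸ Subgroup.mem_top g⟩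
      exact ⟨k, congrArg Subtype.val hk⟩
    haveI := hpg.isNilpotent
    exact h.not_solvable inferInstance
  · have htop : pPrimeCore p G = ⊤ :=
      ((inferInstance : (pPrimeCore p G).Normal).eq_bot_or_eq_top).resolve_left hc
    exact Constrained.pPrimeCore_not_dvd (p := p) (G := G) (by rw [htop, Subgroup.card_top]; exact hdvd)

end TwoGenMin

end CfsgLib.TwoGenSolv82
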