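import Cfsg.Agent.TwoGenSolv82.RealClasses
import Cfsg.Agent.TwoGenSolv82.Degrees

/-!
The cubic sum over the principal block of the sums of all columns of `P`: neither a free nor a
transitive action of the normalizer is possible.

* `Ctx.exists_large`, `Ctx.not_frob`, `Ctx.not_transitive`.
-/

set_option autoImplicit false

namespace CfsgLib.TwoGenSolv82

open Cfsg CfsgLib
open CfsgLib.Blocks CfsgLib.Blocks.AbelianFrobenius CfsgLib.ConjFunctor.CyclicPairs
open scoped ComplexConjugate

universe u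

variable {G : Type u} [Group G] [Fintype G] {p : ℕ} [hp : Fact p.Prime] {P : Sylow p G}
  {M : Ideal AlgInt}

/-- The sum of a character over the non-identity elements of `P`. -/
noncomputable def sumVal (P : Sylow p G) [Fintype (P : Subgroup G)] (χ : IrrCharacter G) : ℝ :=
  ∑ t ∈ offOne (P := P), reVal χ (t : G)

omit hp in
theorem coe_sumVal (P : Sylow p G) [Fintype (P : Subgroup G)] (χ : IrrCharacter G) :
    (sumVal P χ : ℂ) = ∑ t ∈ offOne (P := P), (χ : G → ℂ) (t : G) := by
  have hre : sumVal P χ = (∑ t ∈ offOne (P := P), (χ : G → ℂ) (t : G)).re := by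
    rw [Complex.re_sum]; rfl
  rw [hre]
  refine Complex.conj_eq_iff_re.1 ?_
  rw [map_sum]
  refine Finset.sum_bij' (fun t _ => t⁻¹) (fun t _ => t⁻¹)
    (fun t ht => mem_offOne.2 (inv_ne_one.2 (mem_offOne.1 ht)))
    (fun t ht => mem_offOne.2 (inv_ne_one.2 (mem_offOne.1 ht)))
    (fun t _ => inv_inv t) (fun t _ => inv_inv t) fun t _ => ?_
  rw [← Chars.map_inv_eq_conj (Chars.isCharacter_coe χ), Subgroup.coe_inv]

omit hp in
theorem coe_sumVal_inv (P : Sylow p G) [Fintype (P : Subgroup G)] (χ : IrrCharacter G) :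
    (sumVal P χ : ℂ) = ∑ t ∈ offOne (P := P), (χ : G → ℂ) (t : G)⁻¹ := by
  rw [← Complex.conj_ofReal (sumVal P χ), coe_sumVal, map_sum]
  exact Finset.sum_congr rfl fun t _ => by rw [Chars.map_inv_eq_conj (Chars.isCharacter_coe χ)]

omit hp in
theorem sumVal_one (P : Sylow p G) [Fintype (P : Subgroup G)] :
    sumVal P (Chars.oneChar G) = (offOne (P := P)).card := by
  simp [sumVal, reVal_one]

namespace Ctx

variable [IsSimpleGroup G] [hab : IsMulCommutative (P : Subgroup G)]
  [Fintype (P : Subgroup G)]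

open scoped _root_.Classical in
/-- At most a quarter of the products with a fixed element are regular. -/
theorem four_mul_card_regular_le (hC : Ctx P M) {c : G} (hc : c ^ p = 1) :
    4 * ((offOne (P := P)).filter fun w : (P : Subgroup G) => ¬ p ∣ orderOf (c * (w : G))).card ≤
      (offOne (P := P)).card := by
  set R := (offOne (P := P)).filter fun w : (P : Subgroup G) => ¬ p ∣ orderOf (c * (w : G)) with hR
  have hord : ∀ w : (P : Subgroup G), w ≠ 1 → orderOf w = p := fun w hw =>
    orderOf_eq_prime (Subtype.ext (hC.exp w w.2)) hw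
  have hinj : Set.InjOn (fun x : ↥(P : Subgroup G) × ℕ => x.1 ^ (x.2 + 1))
      (R ×ˢ Finset.range 4 : Finset (↥(P : Subgroup G) × ℕ)) := by
    rintro ⟨w, i⟩ hwi ⟨w', j⟩ hwj h
    simp only [Finset.coe_product, Set.mem_prod, Finset.mem_coe, Finset.mem_range, hR,
      Finset.mem_filter, mem_offOne] at hwi hwj
    simp only at h
    obtain ⟨⟨hw1, hwr⟩, hi⟩ := hwi
    obtain ⟨⟨hw1', hwr'⟩, hj⟩ := hwj
    have h5 := hC.five
    have hcop : (i + 1).Coprime (orderOf w) := by
      rw [hord w hw1]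
      exact ((hp.out.coprime_iff_not_dvd).2 (Nat.not_dvd_of_pos_of_lt (by omega) (by omega))).symm
    obtain ⟨l, hl⟩ := exists_pow_eq_self_of_coprime hcop
    have hw' : w = w' ^ ((j + 1) * l) := by rw [pow_mul, ← h, hl]
    have he : (w' : G) ^ ((j + 1) * l) = (w' : G) := by
      refine hC.pow_eq_self_of_regular hc (hC.exp _ w'.2) _ hwr' ?_
      rw [← SubmonoidClass.coe_pow, ← hw']
      exact hwr
    have hww : w = w' := hw'.trans (Subtype.ext (by rw [SubmonoidClass.coe_pow, he]))
    subst hww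
    have := pow_eq_pow_iff_modEq.1 h
    rw [hord w hw1] at this
    have := Nat.ModEq.eq_of_lt_of_lt this (by omega) (by omega)
    simp only [Prod.mk.injEq, true_and]
    omega
  have hmaps : ∀ x ∈ (R ×ˢ Finset.range 4 : Finset (↥(P : Subgroup G) × ℕ)),
      x.1 ^ (x.2 + 1) ∈ offOne (P := P) := by
    rintro ⟨w, i⟩ hx
    simp only [Finset.mem_product, Finset.mem_range, hR, Finset.mem_filter, mem_offOne] at hx
    refine mem_offOne.2 fun h => ?_
    have h1 := orderOf_dvd_of_pow_eq_one h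
    rw [hord w hx.1.1] at h1
    have := Nat.le_of_dvd (by omega) h1
    have := hC.five
    omega
  have h := Finset.card_le_card_of_injOn _ hmaps hinj
  rw [Finset.card_product, Finset.card_range] at h
  omega

open scoped _root_.Classical in
/-- If the columns of `P` pick out the singular products with weight `K`, some non-trivial
character takes a large average value on `P`. -/
theorem exists_large (hC : Ctx P M) {K : ℝ}
    (hK : ∀ c b : G, c ^ p = 1 → b ^ p = 1 →
      ∑ u ∈ offOne (P := P), ∑ χ ∈ block G M, (χ : G → ℂ) (c * b) * (χ : G → ℂ) (u : G)⁻¹ =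
        if p ∣ orderOf (c * b) then (K : ℂ) else 0)
    (hK3 : 3 * ((offOne (P := P)).card : ℝ) < K) :
    ∃ χ ∈ block G M, χ ≠ Chars.oneChar G ∧
      5 / 8 * (offOne (P := P)).card * degR χ < sumVal P χ ∧
      sumVal P χ ^ 2 ≤ (offOne (P := P)).card * K - ((offOne (P := P)).card : ℝ) ^ 2 := by
  set O := offOne (P := P) with hO
  set s : ℝ := (O.card : ℝ) with hs
  have hB := oneChar_mem (G := G) hC.modular
  have hG : (Nat.card G : ℂ) ≠ 0 := by exact_mod_cast Nat.card_pos.ne'
  have hGR : (0 : ℝ) < Nat.card G := by exact_mod_cast Nat.card_pos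
  -- the squares
  have hsq : ∑ χ ∈ block G M, sumVal P χ ^ 2 = s * K := by
    apply Complex.ofReal_injective
    have e : ∀ χ : IrrCharacter G, ((sumVal P χ ^ 2 : ℝ) : ℂ) =
        ∑ t ∈ O, ∑ u ∈ O, (χ : G → ℂ) (t : G) * (χ : G → ℂ) (u : G)⁻¹ := fun χ => by
      rw [← Finset.sum_mul_sum, hO, ← coe_sumVal, ← coe_sumVal_inv, Complex.ofReal_pow, pow_two]
    rw [Complex.ofReal_sum, Finset.sum_congr rfl fun χ _ => e χ, Finset.sum_comm]
    rw [Finset.sum_congr rfl fun t ht => show _ = (K : ℂ) from (by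
      have h := hK (t : G) 1 (hC.exp t t.2) (one_pow p)
      rw [mul_one] at h
      rw [Finset.sum_comm, h, if_pos]
      rw [orderOf_eq_prime (hC.exp t t.2) (ne_one_of_ne (mem_offOne.1 ht))]),
      Finset.sum_const, nsmul_eq_mul, Complex.ofReal_mul, Complex.ofReal_natCast]
  -- the cubes
  set S : ↥(P : Subgroup G) → G → ℕ := fun x g =>
    (O.filter fun w : (P : Subgroup G) => p ∣ orderOf (g * (x : G) * g⁻¹ * (w : G))).card with hS
  have hcube : ∑ χ ∈ block G M, sumVal P χ ^ 3 / degR χ =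
      K / Nat.card G * ∑ x ∈ O, ∑ g : G, (S x g : ℝ) := by
    apply Complex.ofReal_injective
    have key : ∀ χ : IrrCharacter G, ((sumVal P χ ^ 3 / degR χ : ℝ) : ℂ) =
        (Nat.card G : ℂ)⁻¹ * ∑ x ∈ O, ∑ g : G, ∑ w ∈ O, ∑ u ∈ O,
          (χ : G → ℂ) (g * (x : G) * g⁻¹ * (w : G)) * (χ : G → ℂ) (u : G)⁻¹ := by
      intro χ
      have e : ∀ x : (P : Subgroup G), ∑ g : G, ∑ w ∈ O, ∑ u ∈ O,
          (χ : G → ℂ) (g * (x : G) * g⁻¹ * (w : G)) * (χ : G → ℂ) (u : G)⁻¹ =
            (Nat.card G : ℂ) / (χ : G → ℂ) 1 * ((χ : G → ℂ) (x : G) *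
              (sumVal P χ : ℂ) * (sumVal P χ : ℂ)) := by
        intro x
        rw [Finset.sum_comm, Finset.sum_congr rfl fun w _ => by
          rw [Finset.sum_congr rfl fun g _ => (Finset.mul_sum O _ _).symm, ← Finset.sum_mul,
            sum_irrCharacter_conj_mul χ (w : G) (x : G), ← coe_sumVal_inv P χ],
          ← Finset.sum_mul, ← Finset.sum_div, ← Finset.mul_sum, ← coe_sumVal P χ]
        ring
      rw [Finset.sum_congr rfl fun x _ => e x, ← Finset.mul_sum, ← Finset.sum_mul, ← Finset.sum_mul,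
        ← coe_sumVal P χ, Complex.ofReal_div, Complex.ofReal_pow, coe_degR]
      field_simp
    rw [Complex.ofReal_sum, Finset.sum_congr rfl fun χ _ => key χ, ← Finset.mul_sum,
      Finset.sum_comm, Finset.sum_congr rfl fun x _ => by
        rw [Finset.sum_comm, Finset.sum_congr rfl fun g _ => by
          rw [Finset.sum_comm, Finset.sum_congr rfl fun w _ => by
            rw [Finset.sum_comm, hK _ _ (hC.conj_pow_eq_one' x.2 g) (hC.exp w w.2)],
            ← Finset.sum_filter, Finset.sum_const, nsmul_eq_mul]]]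
    rw [Complex.ofReal_mul, Complex.ofReal_div, Complex.ofReal_natCast, Complex.ofReal_sum]
    simp only [Complex.ofReal_sum, Complex.ofReal_natCast, ← Finset.sum_mul, hS]
    field_simp
  have hcount : ∀ x g, 3 * s ≤ 4 * (S x g : ℝ) := by
    intro x g
    have h1 := hC.four_mul_card_regular_le (hC.conj_pow_eq_one' x.2 g)
    have h2 := Finset.card_filter_add_card_filter_not (s := O)
      fun w : (P : Subgroup G) => p ∣ orderOf (g * (x : G) * g⁻¹ * (w : G))
    rw [← hO] at h1
    have h3 : 3 * O.card ≤ 4 * S x g := by simp only [hS]; omega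
    rw [hs]; exact_mod_cast h3
  have hs0 : 0 < s := by
    rw [hs]
    have := hC.twenty_five_le_card
    have := card_offOne (P := P)
    rw [← hO] at this
    exact_mod_cast (by omega : 0 < O.card)
  have hlow : 3 / 4 * s ^ 2 * K ≤ ∑ χ ∈ block G M, sumVal P χ ^ 3 / degR χ := by
    rw [hcube]
    have h1 : ∑ x ∈ O, ∑ _g : G, (3 / 4 * s) ≤ ∑ x ∈ O, ∑ g : G, (S x g : ℝ) :=
      Finset.sum_le_sum fun x _ => Finset.sum_le_sum fun g _ => by linarith [hcount x g]
    simp only [Finset.sum_const, nsmul_eq_mul, Finset.card_univ, ← Nat.card_eq_fintype_card] at h1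
    calc 3 / 4 * s ^ 2 * K = K / Nat.card G * (s * (Nat.card G * (3 / 4 * s))) := by
          field_simp
      _ ≤ _ := mul_le_mul_of_nonneg_left (by rw [hs] at h1 ⊢; exact h1)
          (div_nonneg (by linarith) hGR.le)
  have hrest : ∀ χ ∈ block G M, χ ≠ Chars.oneChar G →
      sumVal P χ ^ 2 ≤ s * K - s ^ 2 := by
    intro χ hχ hne
    have h := Finset.single_le_sum (f := fun ψ => sumVal P ψ ^ 2) (fun ψ _ => sq_nonneg _)
      (Finset.mem_erase.2 ⟨hne, hχ⟩)
    have h2 := hsq
    rw [← Finset.add_sum_erase _ _ hB, sumVal_one, ← hO, ← hs] at h2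
    linarith
  by_contra hcon
  push Not at hcon
  have hall : ∀ χ ∈ (block G M).erase (Chars.oneChar G),
      sumVal P χ ^ 3 / degR χ ≤ 5 / 8 * s * sumVal P χ ^ 2 := by
    intro χ hχ
    obtain ⟨hne, hmem⟩ := Finset.mem_erase.1 hχ
    have hle : sumVal P χ ≤ 5 / 8 * s * degR χ := by
      by_contra hlt
      push Not at hlt
      linarith [hcon χ hmem hne hlt, hrest χ hmem hne]
    calc sumVal P χ ^ 3 / degR χ = sumVal P χ / degR χ * sumVal P χ ^ 2 := by ring
      _ ≤ _ := mul_le_mul_of_nonneg_right ((div_le_iff₀ (degR_pos χ)).2 hle) (sq_nonneg _)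
  have hup : ∑ χ ∈ block G M, sumVal P χ ^ 3 / degR χ ≤
      s ^ 3 + 5 / 8 * s * (s * K - s ^ 2) := by
    have h2 := hsq
    rw [← Finset.add_sum_erase _ _ hB, sumVal_one, ← hO, ← hs] at h2
    rw [← Finset.add_sum_erase _ _ hB, sumVal_one, ← hO, ← hs, degR_one, div_one]
    refine add_le_add le_rfl ((Finset.sum_le_sum hall).trans (le_of_eq ?_))
    rw [← Finset.mul_sum]; linear_combination (5 / 8 * s) * h2
  nlinarith [mul_pos (mul_pos hs0 hs0) (sub_pos.2 hK3)]

/-- The normalizer does not act freely. -/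
theorem not_frob (hC : Ctx P M) : ¬ Frob P := by
  classical
  intro hF
  haveI := hC.nontrivial
  haveI := Fintype.ofFinite (autP P)
  set e := Nat.card (autP P) with he
  have he2 : 2 ≤ e := hC.two_le_card_autP
  have he3 : 3 ≤ e := by
    by_contra hlt
    have he' : Nat.card (autP P) = 2 := by omega
    obtain ⟨z, hz⟩ := exists_ne (1 : (P : Subgroup G))
    have hsq : ∀ a : autP P, (a : MulAut (P : Subgroup G)) z = z ∨
        (a : MulAut (P : Subgroup G)) z = z⁻¹ := by
      intro a
      by_cases ha : a = 1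
      · left; rw [ha]; rfl
      · right
        have h2 : a * a = 1 := by rw [← pow_two, ← he', pow_card_eq_one']
        refine eq_inv_of_mul_eq_one_left (fpf_autP hF _ a.2 (fun h => ha (Subtype.ext h)) _ ?_)
        have h3 : (a : MulAut (P : Subgroup G)) ((a : MulAut (P : Subgroup G)) z) = z := by
          rw [← MulAut.mul_apply, ← Subgroup.coe_mul, h2]; rfl
        rw [map_mul, h3, mul_comm']
    have hle : Subgroup.zpowers (z : G) ≤ (P : Subgroup G) := Subgroup.zpowers_le.2 z.2
    have hne : Subgroup.zpowers (z : G) ≠ ⊥ := by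
      rw [ne_eq, Subgroup.zpowers_eq_bot]; exact ne_one_of_ne hz
    have htop := hC.min.eq_sylow_of_invariant hC.five P hle hne fun n hn w hw => by
      obtain ⟨k, rfl⟩ := Subgroup.mem_zpowers_iff.1 hw
      rw [← conj_zpow]
      refine Subgroup.zpow_mem _ ?_ k
      have hnz : (((P : Subgroup G).normalizerMonoidHom ⟨n, hn⟩ z : (P : Subgroup G)) : G) =
          n * (z : G) * n⁻¹ := normalizerMonoidHom_coe P ⟨n, hn⟩ z
      rw [← hnz]
      rcases hsq ⟨_, ⟨⟨n, hn⟩, rfl⟩⟩ with h | h <;> simp only at h <;> rw [h]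
      · exact Subgroup.mem_zpowers _
      · exact inv_mem (Subgroup.mem_zpowers _)
    refine hC.nc ?_
    rw [← htop]
    exact Subgroup.isCyclic_zpowers _
  have hcard := card_offOne (P := P)
  set q := Nat.card (P : Subgroup G) with hq
  set s := (offOne (P := P)).card with hs
  have hs24 : 24 ≤ s := by
    have := hC.twenty_five_le_card
    omega
  have hqe : (s : ℝ) + 1 = q := by exact_mod_cast hcard
  have he3' : (3 : ℝ) ≤ e := by exact_mod_cast he3
  have hs' : (24 : ℝ) ≤ s := by exact_mod_cast hs24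
  obtain ⟨χ, hχ, hne, hbig, hle⟩ := hC.exists_large (K := (q : ℝ) * e) (fun c b _ _ => by
    rw [sum_columns hC.modular hF (c * b)]
    push_cast
    rw [mul_ite, mul_one, mul_zero]) (by rw [← hs]; nlinarith)
  have hd : (e : ℝ) ≤ degR χ := by
    rw [degR]; exact_mod_cast card_autP_le_charDegree P hF hne
  rw [← hs] at hbig hle
  have h1 : (5 / 8 * (s : ℝ) * degR χ) ^ 2 < sumVal P χ ^ 2 :=
    pow_lt_pow_left₀ hbig (by nlinarith [degR_pos χ]) two_ne_zero
  have h2 : (s : ℝ) * (q * e) ≤ s * (q * degR χ) :=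
    mul_le_mul_of_nonneg_left (mul_le_mul_of_nonneg_left hd (Nat.cast_nonneg q)) (Nat.cast_nonneg s)
  have h3 : (s : ℝ) * degR χ * (25 * s * degR χ - 64 * q) < 0 := by nlinarith
  have h4 : 25 * (s : ℝ) * degR χ - 64 * q < 0 := by
    by_contra h
    push Not at h
    linarith [mul_nonneg (mul_nonneg (Nat.cast_nonneg s) (degR_pos χ).le) h]
  nlinarith

open scoped _root_.Classical in
/-- The normalizer does not act transitively. -/
theorem not_transitive (hC : Ctx P M)
    (htr : ∀ x ∈ (P : Subgroup G), ∀ y ∈ (P : Subgroup G), x ≠ 1 → y ≠ 1 → IsConj x y) :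
    False := by
  haveI := hC.nontrivial
  obtain ⟨z, hz⟩ := exists_ne (1 : (P : Subgroup G))
  have hz1 : (z : G) ≠ 1 := ne_one_of_ne hz
  obtain ⟨D, hD, -, hqD, hDle⟩ := hC.sumSq z z.2 hz1
  have hreal : ∀ t : (P : Subgroup G), t ≠ 1 → IsConj (t : G) (t : G)⁻¹ := fun t ht =>
    htr _ t.2 _ (inv_mem t.2) (ne_one_of_ne ht) (inv_ne_one.2 (ne_one_of_ne ht))
  have hval : ∀ (χ : IrrCharacter G) (t : (P : Subgroup G)), t ≠ 1 →
      (χ : G → ℂ) (t : G) = (reVal χ (z : G) : ℂ) := by
    intro χ t ht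
    rw [coe_reVal (hreal z hz)]
    obtain ⟨c, hc⟩ := isConj_iff.1 (htr _ t.2 _ z.2 (ne_one_of_ne ht) hz1)
    rw [← hc, Chars.isClassFunction_coe χ (t : G) c]
  have hcard := card_offOne (P := P)
  set q := Nat.card (P : Subgroup G) with hq
  set s := (offOne (P := P)).card with hs
  have hq25 := hC.twenty_five_le_card
  rw [← hq] at hq25
  have hD0 : D ≠ 0 := by
    intro h0
    subst h0
    have h : colNorm M (z : G) = (0 : ℕ) := by
      apply Complex.ofReal_injective
      rw [Complex.ofReal_natCast, ← hD, colNorm, Complex.ofReal_sum]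
      exact Finset.sum_congr rfl fun χ _ => by
        rw [Complex.ofReal_pow, hval χ z hz, Complex.conj_ofReal, pow_two]
    have := hC.twenty_five_le_colNorm z.2 hz1 (hreal z hz)
    rw [h, Nat.cast_zero] at this
    norm_num at this
  have hqD' : q ≤ D := Nat.le_of_dvd (Nat.pos_of_ne_zero hD0) hqD
  have hs24 : 24 ≤ s := by omega
  obtain ⟨χ, hχ, hne, hbig, hle⟩ := hC.exists_large (K := (D : ℝ) * s) (fun c b hc hb => by
    obtain ⟨v, hv⟩ := exists_isPPart (G := G) hp.out (c * b)
    split_ifs with hs'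
    · have hv1 := (dvd_orderOf_iff hv).1 hs'
      obtain ⟨k, hk, -, -⟩ := orderOf_eq_mul_of_isPPart hv
      obtain ⟨g, hg⟩ := exists_conj_mem (P := P) hk
      have hg1 : (⟨g * v * g⁻¹, hg⟩ : (P : Subgroup G)) ≠ 1 := fun h =>
        hv1 (conj_eq_one_iff.1 (congrArg Subtype.val h))
      rw [Finset.sum_congr rfl fun u hu => Finset.sum_congr rfl fun ψ hψ => by
        rw [hC.pure c b v hc hb hv hv1 ψ hψ, ← Chars.isClassFunction_coe ψ v g,
          hval ψ ⟨_, hg⟩ hg1,
          show (ψ : G → ℂ) (u : G)⁻¹ = (reVal ψ (z : G) : ℂ) from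
            hval ψ u⁻¹ (inv_ne_one.2 (mem_offOne.1 hu))],
        Finset.sum_const, nsmul_eq_mul]
      push_cast
      rw [← hD, Finset.sum_congr rfl (s₁ := block G M) fun ψ _ => by
        rw [show (reVal ψ (z : G) : ℂ) * (reVal ψ (z : G) : ℂ) =
          (ψ : G → ℂ) (z : G) * conj ((ψ : G → ℂ) (z : G)) by
            rw [hval ψ z hz, Complex.conj_ofReal]]]
      ring
    · refine Finset.sum_eq_zero fun u hu => ?_
      rw [← hC.sum_eq_zero_of_regular (g := c * b) (h := (u : G)) hs' (by
        rw [orderOf_eq_prime (hC.exp u u.2) (ne_one_of_ne (mem_offOne.1 hu))])]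
      exact Finset.sum_congr rfl fun ψ _ => by rw [Chars.map_inv_eq_conj (Chars.isCharacter_coe ψ)]) (by
    rw [← hs]
    have : (25 : ℝ) ≤ D := by exact_mod_cast hq25.trans hqD'
    have h0 : (24 : ℝ) ≤ s := by exact_mod_cast hs24
    nlinarith)
  set a := reVal χ (z : G) with ha
  have hA : sumVal P χ = s * a := by
    apply Complex.ofReal_injective
    rw [coe_sumVal, Finset.sum_congr rfl fun t ht => hval χ t (mem_offOne.1 ht), Finset.sum_const,
      nsmul_eq_mul, ← hs]
    push_cast
    rfl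
  -- the degree exceeds the value by a multiple of the order of `P`
  obtain ⟨c, hc⟩ := exists_natMult (P := P) χ
  obtain ⟨ψ, hψ⟩ : ∃ ψ : (P : Subgroup G) →* ℂˣ, ψ ≠ 1 := by
    obtain ⟨l, hl⟩ := Chars.exists_linChar_ne_one (G := (P : Subgroup G)) (g := z) (by
      rw [commutator_eq_bot (G := ↥(P : Subgroup G)), Subgroup.mem_bot]; exact hz)
    exact ⟨l, fun h => hl (by rw [h]; rfl)⟩
  have hdeg : degR χ = a + q * (c ψ : ℝ) := by
    apply Complex.ofReal_injective
    have h0 : ∑ y : (P : Subgroup G), (ψ y⁻¹ : ℂ) = 0 := by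
      have := sum_mul_inv (1 : (P : Subgroup G) →* ℂˣ) ψ
      rw [if_neg hψ.symm] at this
      simpa using this
    have h := hc ψ
    rw [← Finset.add_sum_erase _ _ (Finset.mem_univ (1 : (P : Subgroup G)))] at h
    rw [← Finset.add_sum_erase _ _ (Finset.mem_univ (1 : (P : Subgroup G)))] at h0
    simp only [inv_one, map_one, Units.val_one, mul_one, Subgroup.coe_one] at h h0
    rw [Finset.sum_congr rfl fun y hy => by rw [hval χ y (Finset.ne_of_mem_erase hy)],
      ← Finset.mul_sum, show ∑ y ∈ Finset.univ.erase (1 : (P : Subgroup G)), (ψ y⁻¹ : ℂ) = -1 by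
        linear_combination h0, ← Nat.card_eq_fintype_card, ← hq] at h
    push_cast
    rw [coe_degR, h, ← ha]
    ring
  have hc1 : (1 : ℝ) ≤ c ψ := by
    rw [Nat.one_le_cast, Nat.one_le_iff_ne_zero]
    intro h0
    refine apply_ne_map_one hne hz1 ?_
    rw [← coe_degR, hdeg, h0, Nat.cast_zero, mul_zero, add_zero, hval χ z hz]
  rw [← hs, hA] at hbig hle
  have hsR : (0 : ℝ) < s := by exact_mod_cast (by omega : 0 < s)
  have hbig' : 5 / 8 * degR χ < a := by
    by_contra h
    push Not at h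
    linarith [mul_le_mul_of_nonneg_left h hsR.le]
  have hle' : a ^ 2 + 1 ≤ (D : ℝ) := by
    by_contra h
    push Not at h
    linarith [mul_lt_mul_of_pos_left h (mul_pos hsR hsR)]
  have hDq : (D : ℝ) ≤ (q : ℝ) * q := by
    have h := relIndex_centralizer_le P hC.five hC.exp hC.nc hC.solvable_normalizer htr z.2 hz1
    exact_mod_cast hDle.trans (Nat.mul_le_mul_left q h)
  have hqc : (q : ℝ) ≤ q * c ψ := le_mul_of_one_le_right (Nat.cast_nonneg q) hc1
  have h53 : 5 / 3 * (q : ℝ) < a := by linarith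
  nlinarith [pow_lt_pow_left₀ h53 (by positivity) two_ne_zero]

end Ctx

end CfsgLib.TwoGenSolv82
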