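import Cfsg.Agent.Coprime.Basic
import Cfsg.Agent.Coprime.Generation

/-!
For an elementary abelian noncyclic group `R` acting coprimely on a solvable `O` with `⁅O, R⁆ = O`, the
fixed points `C_O(R)` are generated by the `⁅C_O(a), R⁆ ∩ C(R)`, `a ∈ R`, `a ≠ 1`.
-/

set_option autoImplicit false
set_option linter.style.haveILetI false
set_option linter.unusedSectionVars false

open scoped commutatorElement

namespace CfsgLib.TwoGenSolv82

open CfsgLib

universe u

section Main

variable {X : Type u} [Group X]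

/-- The hypotheses, the ambient group being generated by the two subgroups. -/
structure FixGen (R O D : Subgroup X) : Prop where
  comm : IsMulCommutative R
  nc : ¬ IsCyclic R
  cop : (Nat.card R).Coprime (Nat.card O)
  sol : Group.IsSolvable O
  gen : ⁅O, R⁆ = O
  top : O ⊔ R = ⊤
  le : D ≤ O ⊓ Subgroup.centralizer (R : Set X)
  pieces : ∀ a ∈ R, a ≠ 1 →
    ⁅O ⊓ Subgroup.centralizer ({a} : Set X), R⁆ ⊓ Subgroup.centralizer (R : Set X) ≤ D

variable {R O D : Subgroup X}

theorem normal_of_conj (htop : O ⊔ R = ⊤) {K : Subgroup X}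
    (h1 : ∀ g ∈ O, ∀ k ∈ K, g * k * g⁻¹ ∈ K) (h2 : ∀ g ∈ R, ∀ k ∈ K, g * k * g⁻¹ ∈ K) :
    K.Normal :=
  Subgroup.normalizer_eq_top_iff.mp (top_le_iff.mp
    (htop ▸ sup_le (Coprime.le_normalizer_of_conj_mem h1) (Coprime.le_normalizer_of_conj_mem h2)))

theorem FixGen.normalizes (h : FixGen R O D) : R ≤ Subgroup.normalizer (O : Set X) :=
  Subgroup.le_normalizer_iff_commutator_le_left.mpr h.gen.le

theorem FixGen.normal (h : FixGen R O D) : O.Normal :=
  normal_of_conj h.top (fun _ hg _ hk => mul_mem (mul_mem hg hk) (inv_mem hg))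
    (fun _ hg _ hk => Coprime.conj_mem_of_le_normalizer h.normalizes hg hk)

/-- The target inside a subgroup `W`. -/
def fixTarget (R D W : Subgroup X) : Subgroup X := ⁅W, R⁆ ⊔ W ⊓ D

theorem fixTarget_le {W : Subgroup X} [W.Normal] : fixTarget R D W ≤ W :=
  sup_le (Subgroup.commutator_le_left W R) inf_le_left

theorem FixGen.conj_fixTarget (h : FixGen R O D) (W : Subgroup X) {g : X} (hg : g ∈ R) {x : X}
    (hx : x ∈ fixTarget R D W) : g * x * g⁻¹ ∈ fixTarget R D W := by
  rw [fixTarget, Subgroup.sup_eq_closure] at hx ⊢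
  induction hx using Subgroup.closure_induction with
  | mem y hy =>
    refine Subgroup.subset_closure ?_
    rcases hy with hy | hy
    · exact Or.inl (Coprime.conj_commutator_mem (Subgroup.mem_sup_right hg) hy)
    · right
      rwa [Subgroup.mem_centralizer_iff.mp (h.le hy.2).2 g hg, mul_inv_cancel_right]
  | one => simp
  | mul a b _ _ iha ihb => simpa [mul_assoc] using mul_mem iha ihb
  | inv a _ iha => simpa [mul_assoc] using inv_mem iha

variable [Finite X]

theorem FixGen.inf_centralizer_le_of_le (h : FixGen R O D) {W : Subgroup X} [W.Normal] (hWO : W ≤ O)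
    (hW : IsMulCommutative W) (hle : W ≤ fixTarget R D W) :
    W ⊓ Subgroup.centralizer (R : Set X) ≤ D := by
  rintro c ⟨hcW, hcR⟩
  have hN : W ⊓ D ≤ Subgroup.normalizer ((⁅W, R⁆ : Subgroup X) : Set X) :=
    inf_le_left.trans (Subgroup.normalizer_commutator_ge_left W R)
  have hc' : c ∈ ((⁅W, R⁆ ⊔ W ⊓ D : Subgroup X) : Set X) := hle hcW
  rw [Subgroup.coe_mul_of_right_le_normalizer_left _ _ hN] at hc'
  obtain ⟨x, hx, y, hy, rfl⟩ := hc'
  replace hcR : x * y ∈ Subgroup.centralizer (R : Set X) := hcR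
  show x * y ∈ D
  have hyR : y ∈ Subgroup.centralizer (R : Set X) := (h.le hy.2).2
  have hxR : x ∈ Subgroup.centralizer (R : Set X) := by
    simpa using mul_mem hcR (inv_mem hyR)
  have hcop : (Nat.card R).Coprime (Nat.card W) := Coprime.coprime_of_le le_rfl hWO h.cop
  have hbot := Coprime.commutator_inf_centralizer_eq_bot (A := R) hW
    Subgroup.le_normalizer_of_normal hcop
  have hx1 : x = 1 := Subgroup.mem_bot.mp (hbot.le ⟨hx, hxR⟩)
  rw [hx1, one_mul]
  exact hy.2

theorem FixGen.pieces_le (h : FixGen R O D) {a : X} (ha : a ∈ R) :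
    R ≤ Subgroup.normalizer ((O ⊓ Subgroup.centralizer ({a} : Set X) : Subgroup X) : Set X) := by
  refine Coprime.le_normalizer_inf' h.normalizes (Coprime.le_normalizer_of_conj_mem ?_)
  intro r hr x hx
  rw [Subgroup.mem_centralizer_singleton_iff] at hx ⊢
  have e : r * a = a * r := congrArg Subtype.val (h.comm.is_comm.comm ⟨r, hr⟩ ⟨a, ha⟩)
  calc r * x * r⁻¹ * a = r * x * (r⁻¹ * (a * r)) * r⁻¹ := by group
    _ = r * (x * a) * r⁻¹ := by rw [← e]; group
    _ = r * (a * x) * r⁻¹ := by rw [hx]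
    _ = a * (r * x * r⁻¹) := by rw [← mul_assoc r, e]; group

theorem FixGen.inf_piece_le (h : FixGen R O D) {W : Subgroup X} [W.Normal] (hWO : W ≤ O)
    {a : X} (ha : a ∈ R) (ha1 : a ≠ 1) :
    W ⊓ ⁅O ⊓ Subgroup.centralizer ({a} : Set X), R⁆ ≤ fixTarget R D W := by
  set T := ⁅O ⊓ Subgroup.centralizer ({a} : Set X), R⁆
  have hn : R ≤ Subgroup.normalizer ((W ⊓ T : Subgroup X) : Set X) :=
    Coprime.le_normalizer_inf' Subgroup.le_normalizer_of_normal
      (Subgroup.normalizer_commutator_ge_right _ _)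
  refine (Coprime.eq_commutator_sup_centralizer hn
    (Coprime.coprime_of_le le_rfl (inf_le_left.trans hWO) h.cop)
    (Or.inl (Coprime.isSolvable_of_isMulCommutative h.comm))).ge.trans ?_
  exact sup_le_sup (Subgroup.commutator_mono inf_le_left le_rfl)
    (le_inf (inf_le_left.trans inf_le_left)
      ((inf_le_inf_right _ inf_le_right).trans (h.pieces a ha ha1)))

/-- The commutators with an element of a piece. -/
theorem FixGen.commutator_piece_mem (h : FixGen R O D) {M W : Subgroup X} [M.Normal] [W.Normal]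
    (hMO : M ≤ O) (hWO : W ≤ O) (hW : IsMulCommutative W)
    (hMW : ∀ y ∈ M, ∀ w ∈ W, y * w = w * y) {a : X} (ha : a ∈ R) (ha1 : a ≠ 1) {t : X}
    (ht : t ∈ ⁅O ⊓ Subgroup.centralizer ({a} : Set X), R⁆) (hval : ∀ y ∈ M, ⁅y, t⁆ ∈ W) :
    ∀ y ∈ M, ⁅y, t⁆ ∈ fixTarget R D W := by
  have hmul : ∀ y ∈ M, ∀ y' ∈ M, ⁅y * y', t⁆ = ⁅y', t⁆ * ⁅y, t⁆ := fun y hy y' hy' => by
    have e := hMW y hy _ (hval y' hy')
    calc ⁅y * y', t⁆ = y * ⁅y', t⁆ * y⁻¹ * ⁅y, t⁆ := by simp only [commutatorElement_def]; group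
      _ = ⁅y', t⁆ * ⁅y, t⁆ := by rw [e]; group
  have hinv : ∀ y ∈ M, ⁅y⁻¹, t⁆ = ⁅y, t⁆⁻¹ := fun y hy => by
    have e := hMW y⁻¹ (inv_mem hy) _ (inv_mem (hval y hy))
    calc ⁅y⁻¹, t⁆ = y⁻¹ * ⁅y, t⁆⁻¹ * y := by simp only [commutatorElement_def]; group
      _ = ⁅y, t⁆⁻¹ := by rw [e]; group
  let K : Subgroup X :=
    { carrier := {y | y ∈ M ∧ ⁅y, t⁆ ∈ fixTarget R D W}
      one_mem' := ⟨one_mem _, by simp⟩
      mul_mem' := fun {y y'} hy hy' => ⟨mul_mem hy.1 hy'.1, by
        rw [hmul y hy.1 y' hy'.1]; exact mul_mem hy'.2 hy.2⟩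
      inv_mem' := fun {y} hy => ⟨inv_mem hy.1, by rw [hinv y hy.1]; exact inv_mem hy.2⟩ }
  have hz : Subgroup.zpowers a ≤ R := Subgroup.zpowers_le.mpr ha
  have hta : t ∈ Subgroup.centralizer ({a} : Set X) :=
    (Coprime.commutator_le_of_le_normalizer (h.pieces_le ha) ht).2
  have hcom : ∀ b ∈ Subgroup.zpowers a, b * t = t * b := fun b hb => by
    obtain ⟨k, rfl⟩ := Subgroup.mem_zpowers_iff.mp hb
    exact Commute.zpow_left (show Commute a t from (Subgroup.mem_centralizer_singleton_iff.mp hta).symm) k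
  suffices hle : M ≤ K from fun y hy => (hle hy).2
  refine (Coprime.eq_commutator_sup_centralizer (A := Subgroup.zpowers a)
    Subgroup.le_normalizer_of_normal (Coprime.coprime_of_le hz hMO h.cop)
    (Or.inl (Coprime.isSolvable_zpowers a))).ge.trans (sup_le ?_ ?_)
  · rw [Subgroup.commutator_le]
    intro m hm b hb
    have hbm : b * m⁻¹ * b⁻¹ ∈ M := Subgroup.Normal.conj_mem inferInstance _ (inv_mem hm) _
    have hmem : ⁅m, b⁆ = m * (b * m⁻¹ * b⁻¹) := by rw [commutatorElement_def]; group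
    refine ⟨hmem ▸ mul_mem hm hbm, ?_⟩
    have hb' : ⁅b * m⁻¹ * b⁻¹, t⁆ = b * ⁅m⁻¹, t⁆ * b⁻¹ := by
      have e := hcom b hb
      calc ⁅b * m⁻¹ * b⁻¹, t⁆ = b * (m⁻¹ * (b⁻¹ * t * b) * m⁻¹⁻¹) * b⁻¹ * t⁻¹ := by
            simp only [commutatorElement_def]; group
        _ = b * (m⁻¹ * t * m⁻¹⁻¹) * b⁻¹ * t⁻¹ := by rw [mul_assoc b⁻¹, ← e]; group
        _ = b * ⁅m⁻¹, t⁆ * (t * b⁻¹ * t⁻¹) := by simp only [commutatorElement_def]; group
        _ = b * ⁅m⁻¹, t⁆ * b⁻¹ := by
            rw [show t * b⁻¹ = b⁻¹ * t from (hcom b⁻¹ (inv_mem hb)).symm]; group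
    have hw := hval m hm
    have hbw : b * ⁅m, t⁆⁻¹ * b⁻¹ ∈ W := Subgroup.Normal.conj_mem inferInstance _ (inv_mem hw) _
    have hsw : b * ⁅m, t⁆⁻¹ * b⁻¹ * ⁅m, t⁆ = ⁅m, t⁆ * (b * ⁅m, t⁆⁻¹ * b⁻¹) :=
      congrArg Subtype.val (hW.is_comm.comm ⟨_, hbw⟩ ⟨_, hw⟩)
    rw [hmem, hmul m hm _ hbm, hb', hinv m hm, hsw,
      show ⁅m, t⁆ * (b * ⁅m, t⁆⁻¹ * b⁻¹) = ⁅⁅m, t⁆, b⁆ by
        simp only [commutatorElement_def]; group]
    exact Subgroup.mem_sup_left (Subgroup.commutator_mem_commutator hw (hz hb))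
  · rintro y ⟨hyM, hya⟩
    refine ⟨hyM, h.inf_piece_le hWO ha ha1 ⟨hval y hyM, ?_⟩⟩
    have hyC : y ∈ O ⊓ Subgroup.centralizer ({a} : Set X) :=
      ⟨hMO hyM, Subgroup.mem_centralizer_singleton_iff.mpr
        (Subgroup.mem_centralizer_iff.mp hya a (Subgroup.mem_zpowers a)).symm⟩
    rw [commutatorElement_def]
    exact mul_mem (Coprime.conj_commutator_mem (Subgroup.mem_sup_left hyC) ht)
      (show t⁻¹ ∈ ⁅O ⊓ Subgroup.centralizer ({a} : Set X), R⁆ from inv_mem ht)

theorem FixGen.le_of_pieces (h : FixGen R O D) {G K : Subgroup X} (hGn : R ≤ Subgroup.normalizer (G : Set X))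
    (hGO : G ≤ O)
    (hK : ∀ a ∈ R, a ≠ 1 → ⁅G ⊓ Subgroup.centralizer ({a} : Set X), R⁆ ≤ K) : ⁅G, R⁆ ≤ K := by
  refine Coprime.commutator_le_of_cocyclic h.comm hGn (Coprime.coprime_of_le le_rfl hGO h.cop)
    fun B hB hcyc => ?_
  obtain rfl | ⟨b, hb, hb1⟩ := Subgroup.bot_or_exists_ne_one B
  · obtain ⟨a, -, hsup⟩ := hcyc
    rw [bot_sup_eq] at hsup
    exact absurd (hsup ▸ (inferInstance : IsCyclic (Subgroup.zpowers a))) h.nc
  · exact le_trans (Subgroup.commutator_mono
      (inf_le_inf_left _ (Subgroup.centralizer_le (Set.singleton_subset_iff.mpr hb))) le_rfl)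
      (hK b (hB hb) hb1)

/-- A non-trivial normal subgroup of `O` whose fixed points lie in `D`, unless `O` is abelian. -/
theorem FixGen.exists_normal (h : FixGen R O D) (hna : ¬ O ≤ Subgroup.centralizer (O : Set X)) :
    ∃ W : Subgroup X, W.Normal ∧ W ≠ ⊥ ∧ W ≤ O ∧ W ⊓ Subgroup.centralizer (R : Set X) ≤ D := by
  haveI := h.normal
  set Z := O ⊓ Subgroup.centralizer (O : Set X) with hZ
  haveI : Z.Normal := inferInstance
  have hlt : Z < O := lt_of_le_of_ne inf_le_left fun e => hna (e.ge.trans inf_le_right)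
  obtain ⟨M, ⟨hMn, hZM, hMO⟩, hmin⟩ := wellFounded_lt.has_min
    {M : Subgroup X | M.Normal ∧ Z < M ∧ M ≤ O} ⟨O, inferInstance, hlt, le_rfl⟩
  haveI := hMn
  have hmin' : ∀ K : Subgroup X, K.Normal → Z ≤ K → K ≤ M → K = Z ∨ K = M := fun K hK h1 h2 => by
    rcases eq_or_lt_of_le h1 with e | e
    · exact Or.inl e.symm
    · exact Or.inr (eq_of_le_of_not_lt h2 (hmin K ⟨hK, e, h2.trans hMO⟩))
  by_cases hMW : M ≤ Subgroup.centralizer ((⁅M, O⁆ : Subgroup X) : Set X)
  · -- the commutators with all of `O`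
    set W := ⁅M, O⁆
    have hWM : W ≤ M := Subgroup.commutator_le_left M O
    have hWO : W ≤ O := hWM.trans hMO
    have hcomm : ∀ y ∈ M, ∀ w ∈ W, y * w = w * y := fun y hy w hw =>
      (Subgroup.mem_centralizer_iff.mp (hMW hy) w hw).symm
    have hW : IsMulCommutative W := ⟨⟨fun x y => Subtype.ext (hcomm x (hWM x.2) y y.2)⟩⟩
    refine ⟨W, inferInstance, fun e => ?_, hWO, h.inf_centralizer_le_of_le hWO hW ?_⟩
    · exact hZM.not_ge (le_inf hMO (Subgroup.commutator_eq_bot_iff_le_centralizer.mp e))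
    let K : Subgroup X :=
      { carrier := {g | g ∈ O ∧ ∀ y ∈ M, ⁅y, g⁆ ∈ fixTarget R D W}
        one_mem' := ⟨one_mem _, fun y _ => by simp⟩
        mul_mem' := fun {g g'} hg hg' => ⟨mul_mem hg.1 hg'.1, fun y hy => by
          have hw := hg'.2 y hy
          have e : ⁅y, g * g'⁆ = ⁅y, g⁆ * (⁅⁅y, g'⁆, g⁆⁻¹ * ⁅y, g'⁆) := by
            simp only [commutatorElement_def]; group
          rw [e]
          exact mul_mem (hg.2 y hy) (mul_mem (inv_mem (hg.2 _ (hWM (fixTarget_le hw)))) hw)⟩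
        inv_mem' := fun {g} hg => ⟨inv_mem hg.1, fun y hy => by
          have hy' : g⁻¹ * y * g ∈ M := Subgroup.Normal.conj_mem' inferInstance _ hy _
          have e : ⁅y, g⁻¹⁆ = ⁅g⁻¹ * y * g, g⁆⁻¹ := by simp only [commutatorElement_def]; group
          rw [e]
          exact inv_mem (hg.2 _ hy')⟩ }
    have hOK : O ≤ K := h.gen.ge.trans (h.le_of_pieces h.normalizes le_rfl fun a ha ha1 t ht =>
      have htO : t ∈ O := (Coprime.commutator_le_of_le_normalizer (h.pieces_le ha) ht).1
      ⟨htO, h.commutator_piece_mem hMO hWO hW hcomm ha ha1 ht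
        fun y hy => Subgroup.commutator_mem_commutator hy htO⟩)
    exact Subgroup.commutator_le.mpr fun y hy g hg => (hOK hg).2 y hy
  · -- the derived subgroup, a central one
    set W := ⁅M, M⁆
    haveI : W.Normal := inferInstance
    have hWZ : W ≤ Z := by
      rcases hmin' (W ⊔ Z) inferInstance le_sup_right
        (sup_le (Subgroup.commutator_le_left M M) hZM.le) with e | e
      · exact le_sup_left.trans e.le
      · exfalso
        set π := QuotientGroup.mk' Z
        have hπ : M.map π = ⁅M.map π, M.map π⁆ := by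
          conv_lhs => rw [← e]
          rw [Subgroup.map_sup, Subgroup.map_commutator,
            (Subgroup.map_eq_bot_iff Z).mpr (QuotientGroup.ker_mk' Z).ge, sup_bot_eq]
        have hne : M.map π ≠ ⊥ := fun hb => hZM.not_ge
          (((Subgroup.map_eq_bot_iff M).mp hb).trans (QuotientGroup.ker_mk' Z).le)
        exact (Coprime.commutator_self_lt
          (Coprime.isSolvable_map π M (Coprime.isSolvable_of_le hMO h.sol)) hne).ne hπ.symm
    have hWO : W ≤ O := hWZ.trans inf_le_left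
    have hcent : ∀ g ∈ O, ∀ w ∈ W, g * w = w * g := fun g hg w hw =>
      Subgroup.mem_centralizer_iff.mp (hWZ hw).2 g hg
    have hW : IsMulCommutative W := ⟨⟨fun x y => Subtype.ext (hcent x (hWO x.2) y y.2)⟩⟩
    refine ⟨W, inferInstance, fun e => hMW ?_, hWO, h.inf_centralizer_le_of_le hWO hW ?_⟩
    · exact (Subgroup.commutator_eq_bot_iff_le_centralizer.mp e).trans
        (Subgroup.centralizer_le (Subgroup.commutator_le_left M O))
    let K : Subgroup X :=
      { carrier := {m | m ∈ M ∧ ∀ y ∈ M, ⁅y, m⁆ ∈ fixTarget R D W}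
        one_mem' := ⟨one_mem _, fun y _ => by simp⟩
        mul_mem' := fun {m m'} hm hm' => ⟨mul_mem hm.1 hm'.1, fun y hy => by
          have e := hcent m (hMO hm.1) _ (fixTarget_le (hm'.2 y hy))
          have e' : ⁅y, m * m'⁆ = ⁅y, m⁆ * (m * ⁅y, m'⁆ * m⁻¹) := by
            simp only [commutatorElement_def]; group
          rw [e', e, mul_inv_cancel_right]
          exact mul_mem (hm.2 y hy) (hm'.2 y hy)⟩
        inv_mem' := fun {m} hm => ⟨inv_mem hm.1, fun y hy => by
          have e := hcent m⁻¹ (hMO (inv_mem hm.1)) _ (inv_mem (fixTarget_le (hm.2 y hy)))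
          have e' : ⁅y, m⁻¹⁆ = m⁻¹ * ⁅y, m⁆⁻¹ * m⁻¹⁻¹ := by
            simp only [commutatorElement_def]; group
          rw [e', e, mul_inv_cancel_right]
          exact inv_mem (hm.2 y hy)⟩ }
    have hKn : K.Normal := by
      have hconj : ∀ g : X, (∀ x ∈ fixTarget R D W, g * x * g⁻¹ ∈ fixTarget R D W) →
          ∀ m ∈ K, g * m * g⁻¹ ∈ K := fun g hg m hm =>
        ⟨Subgroup.Normal.conj_mem inferInstance _ hm.1 _, fun y hy => by
          have e : ⁅y, g * m * g⁻¹⁆ = g * ⁅g⁻¹ * y * g, m⁆ * g⁻¹ := by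
            simp only [commutatorElement_def]; group
          rw [e]
          exact hg _ (hm.2 _ (Subgroup.Normal.conj_mem' inferInstance _ hy _))⟩
      refine normal_of_conj h.top (fun g hg => hconj g fun x hx => ?_)
        (fun g hg => hconj g fun x hx => h.conj_fixTarget W hg hx)
      rwa [hcent g hg x (fixTarget_le hx), mul_inv_cancel_right]
    have hMR : ⁅M, R⁆ ≤ K := h.le_of_pieces Subgroup.le_normalizer_of_normal hMO
      fun a ha ha1 t ht => by
        have htT : t ∈ ⁅O ⊓ Subgroup.centralizer ({a} : Set X), R⁆ :=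
          Subgroup.commutator_mono (inf_le_inf_right _ hMO) le_rfl ht
        have htM : t ∈ M := Subgroup.commutator_le_left M R
          (Subgroup.commutator_mono inf_le_left le_rfl ht)
        exact ⟨htM, h.commutator_piece_mem hMO hWO hW (fun y hy => hcent y (hMO hy)) ha ha1 htT
          fun y hy => Subgroup.commutator_mem_commutator hy htM⟩
    have hZK : Z ≤ K := fun z hz => ⟨hZM.le hz, fun y hy => by
      rw [commutatorElement_eq_one_iff_mul_comm.mpr
        (Subgroup.mem_centralizer_iff.mp hz.2 y (hMO hy))]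
      exact one_mem _⟩
    rcases hmin' K hKn hZK (fun m hm => hm.1) with e | e
    · -- `R`, hence `O`, centralizes `M` modulo `Z`
      exfalso
      set π := QuotientGroup.mk' Z
      haveI : (M.map π).Normal :=
        Subgroup.Normal.map inferInstance _ (QuotientGroup.mk'_surjective Z)
      haveI : (Subgroup.centralizer ((M.map π : Subgroup (X ⧸ Z)) : Set (X ⧸ Z))).Normal :=
        inferInstance
      have hR : R.map π ≤ Subgroup.centralizer ((M.map π : Subgroup (X ⧸ Z)) : Set (X ⧸ Z)) := by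
        rw [← Subgroup.commutator_eq_bot_iff_le_centralizer, Subgroup.commutator_comm,
          ← Subgroup.map_commutator, Subgroup.map_eq_bot_iff, QuotientGroup.ker_mk']
        exact hMR.trans e.le
      have hO : O.map π ≤ Subgroup.centralizer ((M.map π : Subgroup (X ⧸ Z)) : Set (X ⧸ Z)) := by
        rw [← h.gen, Subgroup.map_commutator]
        exact (Subgroup.commutator_mono le_rfl hR).trans (Subgroup.commutator_le_right _ _)
      rw [← Subgroup.commutator_eq_bot_iff_le_centralizer, Subgroup.commutator_comm,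
        ← Subgroup.map_commutator, Subgroup.map_eq_bot_iff, QuotientGroup.ker_mk'] at hO
      exact hMW fun y hy => Subgroup.mem_centralizer_iff.mpr fun w hw =>
        (Subgroup.mem_centralizer_iff.mp (hO hw).2 y (hMO hy)).symm
    · exact Subgroup.commutator_le.mpr fun y hy m hm =>
        ((e.ge : M ≤ K) hm).2 y hy

end Main

theorem fixGen_le : ∀ (n : ℕ) (X : Type u) [Group X] [Finite X] (R O D : Subgroup X),
    Nat.card X = n → FixGen R O D → O ⊓ Subgroup.centralizer (R : Set X) ≤ D := by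
  intro n
  induction n using Nat.strong_induction_on with
  | _ n ih =>
    intro X _ _ R O D hn h
    by_cases hab : O ≤ Subgroup.centralizer (O : Set X)
    · have hc : IsMulCommutative O :=
        ⟨⟨fun x y => Subtype.ext (Subgroup.mem_centralizer_iff.mp (hab y.2) x x.2)⟩⟩
      have := Coprime.commutator_inf_centralizer_eq_bot (A := R) hc h.normalizes h.cop
      rw [h.gen] at this
      exact this ▸ bot_le
    obtain ⟨W, hWn, hW1, hWO, hWD⟩ := h.exists_normal hab
    haveI := hWn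
    haveI := h.normal
    set π := QuotientGroup.mk' W
    have hsolR : Group.IsSolvable R := Coprime.isSolvable_of_isMulCommutative h.comm
    have hcopW : (Nat.card R).Coprime (Nat.card W) := Coprime.coprime_of_le le_rfl hWO h.cop
    have hinj : Function.Injective (π.subgroupMap R) := by
      rw [← MonoidHom.ker_eq_bot_iff, Subgroup.eq_bot_iff_forall]
      intro x hx
      have hxW : (x : X) ∈ W := (QuotientGroup.eq_one_iff _).mp (congrArg Subtype.val hx)
      exact Subtype.ext (orderOf_eq_one_iff.mp (Nat.Coprime.eq_one_of_dvd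
        (hcopW.coprime_dvd_left (R.orderOf_dvd_natCard x.2))
        (W.orderOf_dvd_natCard hxW)))
    let e := MulEquiv.ofBijective (π.subgroupMap R) ⟨hinj, π.subgroupMap_surjective R⟩
    have hcomm' : IsMulCommutative (R.map π) := ⟨⟨fun x y => by
      obtain ⟨x', rfl⟩ := e.surjective x
      obtain ⟨y', rfl⟩ := e.surjective y
      rw [← map_mul, ← map_mul, h.comm.is_comm.comm]⟩⟩
    have hpieces : ∀ a ∈ R.map π, a ≠ 1 →
        ⁅O.map π ⊓ Subgroup.centralizer ({a} : Set (X ⧸ W)), R.map π⁆ ⊓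
          Subgroup.centralizer ((R.map π : Subgroup (X ⧸ W)) : Set (X ⧸ W)) ≤ D.map π := by
      rintro _ ⟨a, ha, rfl⟩ ha1
      have hcz : ∀ {Y : Type u} [Group Y] (y : Y),
          Subgroup.centralizer ((Subgroup.zpowers y : Subgroup Y) : Set Y) =
            Subgroup.centralizer ({y} : Set Y) := fun y => by
        rw [Subgroup.zpowers_eq_closure, Subgroup.centralizer_closure]
      have hmap := Coprime.map_inf_centralizer (A := Subgroup.zpowers a) hWO
        (Coprime.coprime_of_le (Subgroup.zpowers_le.mpr ha) le_rfl hcopW)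
        (Or.inl (Coprime.isSolvable_zpowers a))
      rw [hcz, MonoidHom.map_zpowers, hcz] at hmap
      rw [← hmap, ← Subgroup.map_commutator]
      rintro _ ⟨⟨x, hx, rfl⟩, hxc⟩
      set T := ⁅O ⊓ Subgroup.centralizer ({a} : Set X), R⁆
      have hRT : R ≤ Subgroup.normalizer (T : Set X) := Subgroup.normalizer_commutator_ge_right _ _
      obtain ⟨w, hw, hwx⟩ := Coprime.exists_mul_mem_centralizer (A := R) (N := W ⊓ T)
        (Coprime.le_normalizer_inf' Subgroup.le_normalizer_of_normal hRT)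
        (Coprime.coprime_of_le le_rfl inf_le_left hcopW) (Or.inl hsolR) (g := x) (fun r hr => by
          refine ⟨?_, Coprime.commutator_le_of_le_normalizer hRT
            (Subgroup.commutator_mem_commutator hx hr)⟩
          show ⁅x, r⁆ ∈ W
          rw [← QuotientGroup.eq_one_iff, ← QuotientGroup.mk'_apply,
            map_commutatorElement, commutatorElement_eq_one_iff_mul_comm]
          exact (Subgroup.mem_centralizer_iff.mp hxc _ ⟨r, hr, rfl⟩).symm)
      refine ⟨w * x, h.pieces a ha (fun e => ha1 (by rw [e, map_one])) ⟨mul_mem hw.2 hx, hwx⟩, ?_⟩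
      rw [map_mul, show π w = 1 from (QuotientGroup.eq_one_iff w).mpr hw.1, one_mul]
    have h' : FixGen (R.map π) (O.map π) (D.map π) :=
      { comm := hcomm'
        nc := fun hc => h.nc (e.isCyclic.mpr hc)
        cop := (h.cop.coprime_dvd_left (Subgroup.card_map_dvd _ _)).coprime_dvd_right
          (Subgroup.card_map_dvd _ _)
        sol := Coprime.isSolvable_map π O h.sol
        gen := by rw [← Subgroup.map_commutator, h.gen]
        top := by
          rw [← Subgroup.map_sup, h.top,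
            Subgroup.map_top_of_surjective _ (QuotientGroup.mk'_surjective W)]
        le := by
          refine (Subgroup.map_mono h.le).trans ?_
          exact (Coprime.map_inf_centralizer hWO hcopW (Or.inl hsolR)).le
        pieces := hpieces }
    have hlt : Nat.card (X ⧸ W) < n := by
      rw [← hn, Subgroup.card_eq_card_quotient_mul_card_subgroup W]
      exact lt_mul_of_one_lt_right Nat.card_pos (W.one_lt_card_iff_ne_bot.mpr hW1)
    rintro c ⟨hcO, hcR⟩
    obtain ⟨d, hd, hdc⟩ := ih _ hlt (X ⧸ W) _ _ _ rfl h'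
      ((Coprime.map_inf_centralizer hWO hcopW (Or.inl hsolR)).le ⟨c, ⟨hcO, hcR⟩, rfl⟩)
    have hw : d⁻¹ * c ∈ W := QuotientGroup.eq.mp hdc
    replace hcR : c ∈ Subgroup.centralizer (R : Set X) := hcR
    have hdR : d ∈ Subgroup.centralizer (R : Set X) := (h.le hd).2
    have := hWD (Subgroup.mem_inf.mpr ⟨hw, mul_mem (inv_mem hdR) hcR⟩)
    simpa using mul_mem hd this

/-- `C_O(R)` lies in `D` as soon as the pieces `⁅C_O(a), R⁆ ∩ C(R)` do. -/
theorem centralizer_le_of_pieces {G : Type*} [Group G] [Finite G] {p : ℕ} [Fact p.Prime]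
    (R O D : Subgroup G) (hR : IsMulCommutative R) (hexp : ∀ x ∈ R, x ^ p = 1) (hnc : ¬ IsCyclic R)
    (hRN : R ≤ Subgroup.normalizer (O : Set G)) (hco : ¬ p ∣ Nat.card O) (hsol : Group.IsSolvable O)
    (hgen : ⁅O, R⁆ = O)
    (hD : ∀ a ∈ R, a ≠ 1 →
      ⁅O ⊓ Subgroup.centralizer ({a} : Set G), R⁆ ⊓ Subgroup.centralizer (R : Set G) ≤ D) :
    O ⊓ Subgroup.centralizer (R : Set G) ≤ D := by
  set Γ := O ⊔ R with hΓ
  set ι := Γ.subtype
  set R₁ := R.subgroupOf Γ
  set O₁ := O.subgroupOf Γ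
  have hmO : O₁.map ι = O := Subgroup.map_subgroupOf_eq_of_le le_sup_left
  have hmR : R₁.map ι = R := Subgroup.map_subgroupOf_eq_of_le le_sup_right
  have eR : R₁ ≃* R := Subgroup.subgroupOfEquivOfLe le_sup_right
  have eO : O₁ ≃* O := Subgroup.subgroupOfEquivOfLe le_sup_left
  have hcmem : ∀ x : Γ, x ∈ Subgroup.centralizer (R₁ : Set Γ) ↔
      (x : G) ∈ Subgroup.centralizer (R : Set G) := fun x => by
    simp only [Subgroup.mem_centralizer_iff, SetLike.mem_coe]
    exact ⟨fun h r hr => congrArg Subtype.val (h ⟨r, Subgroup.mem_sup_right hr⟩ hr),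
      fun h r hr => Subtype.ext (h _ hr)⟩
  have hp : IsPGroup p R := fun x => ⟨1, Subtype.ext (by simpa using hexp x x.2)⟩
  obtain ⟨k, hk⟩ := IsPGroup.iff_card.mp hp
  have hcop : (Nat.card R).Coprime (Nat.card O) := by
    rw [hk]; exact ((Fact.out : p.Prime).coprime_iff_not_dvd.mpr hco).pow_left k
  have key := fixGen_le (Nat.card Γ) Γ R₁ O₁
    ((D.subgroupOf Γ) ⊓ (O₁ ⊓ Subgroup.centralizer (R₁ : Set Γ))) rfl
    { comm := ⟨⟨fun x y => eR.injective (by rw [map_mul, map_mul, hR.is_comm.comm])⟩⟩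
      nc := fun hc => hnc (eR.isCyclic.mp hc)
      cop := by rwa [Nat.card_congr eR.toEquiv, Nat.card_congr eO.toEquiv]
      sol := by haveI := hsol; exact Group.isSolvable_of_isSolvable_injective (f := eO.toMonoidHom) eO.injective
      gen := Subgroup.map_injective Γ.subtype_injective (by
        rw [Subgroup.map_commutator, hmO, hmR, hgen])
      top := Subgroup.map_injective Γ.subtype_injective (by
        rw [Subgroup.map_sup, hmO, hmR, ← MonoidHom.range_eq_map, Subgroup.range_subtype])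
      le := inf_le_right
      pieces := by
        rintro a ha ha1 x ⟨hx, hxc⟩
        have hle : (⁅O₁ ⊓ Subgroup.centralizer ({a} : Set Γ), R₁⁆).map ι ≤
            ⁅O ⊓ Subgroup.centralizer ({(a : G)} : Set G), R⁆ := by
          rw [Subgroup.map_commutator, hmR]
          refine Subgroup.commutator_mono ?_ le_rfl
          rintro _ ⟨y, ⟨hy, hya⟩, rfl⟩
          exact ⟨hy, Subgroup.mem_centralizer_singleton_iff.mpr
            (congrArg Subtype.val (Subgroup.mem_centralizer_singleton_iff.mp hya))⟩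
        have hxO : x ∈ O₁ := by
          have hn : R₁ ≤ Subgroup.normalizer (O₁ : Set Γ) :=
            Coprime.le_normalizer_of_conj_mem fun r hr y hy =>
              Coprime.conj_mem_of_le_normalizer hRN hr hy
          exact Coprime.commutator_le_of_le_normalizer hn
            (Subgroup.commutator_mono inf_le_left le_rfl hx)
        exact ⟨hD a ha (fun e => ha1 (Subtype.ext e)) ⟨hle ⟨x, hx, rfl⟩, (hcmem x).mp hxc⟩,
          hxO, hxc⟩ }
  intro c hc
  exact (key (x := ⟨c, Subgroup.mem_sup_left hc.1⟩) ⟨hc.1, (hcmem _).mpr hc.2⟩).1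

end CfsgLib.TwoGenSolv82
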