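import Cfsg.Agent.TwoGenSolv82.CentralizerGen
import Cfsg.Agent.Constrained.HallHigman
import Cfsg.Agent.Eq.Def_Local

/-!
In a group with elementary abelian Sylow `p`-subgroups, solvable two-generated subgroups and solvable
centralizers of elements of order `p`: if a product of two elements of order `p` equals `z * u`, then
`u` lies in the `p'`-core of the centralizer of `z`.
-/

set_option autoImplicit false
set_option linter.style.haveILetI false
set_option linter.unusedSectionVars false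

open scoped commutatorElement

namespace CfsgLib.TwoGenSolv82

open CfsgLib Cfsg

section Core

variable {G : Type*} [Group G] {p : ℕ}

/-- The `p'`-core of a subgroup, inside the ambient group. -/
def coreOf (p : ℕ) (H : Subgroup G) : Subgroup G := (pPrimeCore p ↥H).map H.subtype

theorem coreOf_le (H : Subgroup G) : coreOf p H ≤ H := Subgroup.map_subtype_le _

theorem le_normalizer_coreOf (H : Subgroup G) :
    H ≤ Subgroup.normalizer (coreOf p H : Set G) := by
  refine Coprime.le_normalizer_of_conj_mem fun g hg x hx => ?_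
  obtain ⟨y, hy, rfl⟩ := hx
  exact ⟨⟨g, hg⟩ * y * ⟨g, hg⟩⁻¹,
    Subgroup.Normal.conj_mem (Constrained.instNormalPPrimeCore p) y hy _, rfl⟩

variable [Finite G] [Fact p.Prime]

theorem not_dvd_card_coreOf (H : Subgroup G) : ¬ p ∣ Nat.card ↥(coreOf p H) := by
  rw [coreOf, Subgroup.card_map_of_injective H.subtype_injective]
  exact Constrained.pPrimeCore_not_dvd

theorem not_dvd_orderOf_of_mem {X : Subgroup G} (hX : ¬ p ∣ Nat.card X) {x : G} (hx : x ∈ X) :
    ¬ p ∣ orderOf x :=
  fun h => hX (h.trans (X.orderOf_dvd_natCard hx))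

theorem le_coreOf {H N : Subgroup G} (hle : N ≤ H) (hn : H ≤ Subgroup.normalizer (N : Set G))
    (hN : ¬ p ∣ Nat.card N) : N ≤ coreOf p H := by
  have h1 : N.subgroupOf H ≤ pPrimeCore p ↥H :=
    Constrained.le_pPrimeCore_of_not_dvd (Subgroup.normal_subgroupOf_of_le_normalizer hn)
      (by rwa [Nat.card_congr (Subgroup.subgroupOfEquivOfLe hle).toEquiv])
  rw [← Subgroup.map_subgroupOf_eq_of_le hle]
  exact Subgroup.map_mono h1

end Core

section Abstract

variable {H : Type*} [Group H] [Finite H] {p : ℕ} [Fact p.Prime]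

theorem pCore_le_map_sylow (Q : Sylow p H) :
    pCore p (H ⧸ pPrimeCore p H) ≤ (Q : Subgroup H).map (QuotientGroup.mk' (pPrimeCore p H)) :=
  IsPGroup.le_sylow_of_normal Constrained.isPGroup_pCore
    (Q.mapSurjective (QuotientGroup.mk'_surjective (pPrimeCore p H)))

theorem mk_eq_one_of_mem_pCore {u : H} (hu : ¬ p ∣ orderOf u)
    (h : QuotientGroup.mk' (pPrimeCore p H) u ∈ pCore p (H ⧸ pPrimeCore p H)) :
    u ∈ pPrimeCore p H := by
  refine (QuotientGroup.eq_one_iff u).mp (orderOf_eq_one_iff.mp ?_)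
  obtain ⟨k, hk⟩ := Constrained.isPGroup_pCore ⟨_, h⟩
  have h1 : orderOf (QuotientGroup.mk' (pPrimeCore p H) u) ∣ p ^ k :=
    orderOf_dvd_of_pow_eq_one (congrArg Subtype.val hk)
  have h2 : ¬ p ∣ orderOf (QuotientGroup.mk' (pPrimeCore p H) u) := fun h2 =>
    hu (h2.trans (orderOf_map_dvd _ u))
  exact Nat.Coprime.eq_one_of_dvd
    ((((Fact.out : p.Prime).coprime_iff_not_dvd.mpr h2).pow_left k).symm) h1

/-- A `p'`-element of a solvable group with abelian Sylow subgroups that lies in the subgroup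
generated by the elements with `x ^ p = 1` is in the `p'`-core. -/
theorem mem_pPrimeCore_of_mem_closure (hsol : Group.IsSolvable H)
    (hab : ∀ Q : Sylow p H, IsMulCommutative (Q : Subgroup H)) {y : H}
    (hy : y ∈ Subgroup.closure {x : H | x ^ p = 1}) (hyp : ¬ p ∣ orderOf y) :
    y ∈ pPrimeCore p H := by
  haveI := hsol
  refine mk_eq_one_of_mem_pCore hyp ?_
  have hle : Subgroup.closure {x : H | x ^ p = 1} ≤
      (pCore p (H ⧸ pPrimeCore p H)).comap (QuotientGroup.mk' (pPrimeCore p H)) := by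
    rw [Subgroup.closure_le]
    intro x hx
    refine Constrained.centralizer_pCore_quotient_le Constrained.isPSolvable_of_isSolvable
      (Subgroup.mem_centralizer_iff.mpr fun w hw => ?_)
    have hxp : IsPGroup p (Subgroup.zpowers x) := fun ⟨g, hg⟩ => by
      obtain ⟨i, rfl⟩ := Subgroup.mem_zpowers_iff.mp hg
      refine ⟨1, Subtype.ext ?_⟩
      show (x ^ i) ^ (p ^ 1) = 1
      rw [pow_one, ← zpow_natCast (x ^ i), ← zpow_mul, mul_comm i, zpow_mul, zpow_natCast,
        show x ^ p = 1 from hx, one_zpow]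
    obtain ⟨Q, hQ⟩ := hxp.exists_le_sylow
    obtain ⟨q, hq, rfl⟩ := pCore_le_map_sylow Q hw
    rw [← map_mul, ← map_mul]
    exact congrArg _ (congrArg Subtype.val
      ((hab Q).is_comm.comm ⟨q, hq⟩ ⟨x, hQ (Subgroup.mem_zpowers x)⟩))
  exact hle hy

/-- A `p'`-element centralizing a Sylow subgroup modulo the `p'`-core is in the `p'`-core. -/
theorem mem_pPrimeCore_of_commutator (hsol : Group.IsSolvable H) (Q : Sylow p H) {u : H}
    (hu : ¬ p ∣ orderOf u) (h : ∀ q ∈ (Q : Subgroup H), ⁅u, q⁆ ∈ pPrimeCore p H) :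
    u ∈ pPrimeCore p H := by
  haveI := hsol
  refine mk_eq_one_of_mem_pCore hu
    (Constrained.centralizer_pCore_quotient_le Constrained.isPSolvable_of_isSolvable
      (Subgroup.mem_centralizer_iff.mpr fun w hw => ?_))
  obtain ⟨q, hq, rfl⟩ := pCore_le_map_sylow Q hw
  refine (commutatorElement_eq_one_iff_mul_comm.mp ?_).symm
  rw [← map_commutatorElement]
  exact (QuotientGroup.eq_one_iff _).mpr (h q hq)

/-- A group generated by its elements with `x ^ p = 1` is the join of the `p'`-core and a Sylow. -/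
theorem pPrimeCore_sup_sylow_eq_top (hsol : Group.IsSolvable H)
    (hab : ∀ Q : Sylow p H, IsMulCommutative (Q : Subgroup H))
    (hgen : Subgroup.closure {x : H | x ^ p = 1} = ⊤) (S : Sylow p H) :
    pPrimeCore p H ⊔ (S : Subgroup H) = ⊤ := by
  have hpg : IsPGroup p (H ⧸ pPrimeCore p H) := fun g => by
    obtain ⟨x, rfl⟩ := QuotientGroup.mk_surjective g
    obtain ⟨k, m, hm, hkm⟩ :=
      Nat.exists_eq_pow_mul_and_not_dvd (orderOf_pos x).ne' p (Fact.out : p.Prime).ne_one
    have hp0 : p ^ k ≠ 0 := pow_ne_zero _ (Fact.out : p.Prime).ne_zero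
    refine ⟨k, ?_⟩
    rw [← QuotientGroup.mk_pow, QuotientGroup.eq_one_iff]
    refine mem_pPrimeCore_of_mem_closure hsol hab (by rw [hgen]; exact Subgroup.mem_top _) ?_
    rw [orderOf_pow_of_dvd hp0 ⟨m, hkm⟩, hkm, Nat.mul_div_cancel_left _ (Nat.pos_of_ne_zero hp0)]
    exact hm
  obtain ⟨n, hn⟩ := IsPGroup.iff_card.mp hpg
  have hidx : (pPrimeCore p H).index = p ^ n := hn
  rw [← Subgroup.index_eq_one]
  have h1 : (pPrimeCore p H ⊔ (S : Subgroup H)).index ∣ p ^ n :=
    hidx ▸ Subgroup.index_dvd_of_le le_sup_left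
  exact Nat.Coprime.eq_one_of_dvd
    ((((Fact.out : p.Prime).coprime_iff_not_dvd.mpr fun h =>
      S.not_dvd_index (h.trans (Subgroup.index_dvd_of_le le_sup_right))).pow_left n).symm) h1

end Abstract

section Ambient

variable {G : Type*} [Group G] [Finite G] {p : ℕ} [Fact p.Prime]

theorem sylow_comm_exp (P : Sylow p G) (hab : IsMulCommutative (P : Subgroup G))
    (hexp : ∀ x ∈ (P : Subgroup G), x ^ p = 1) {A : Subgroup G} (hA : IsPGroup p A) :
    IsMulCommutative A ∧ ∀ x ∈ A, x ^ p = 1 := by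
  obtain ⟨Q, hQ⟩ := hA.exists_le_sylow
  obtain ⟨g, rfl⟩ := MulAction.exists_smul_eq G P Q
  have hmem : ∀ x ∈ A, g⁻¹ * x * g ∈ (P : Subgroup G) := fun x hx => by
    have hxQ := hQ hx
    rw [Sylow.coe_subgroup_smul, Subgroup.mem_pointwise_smul_iff_inv_smul_mem] at hxQ
    simpa [MulAut.smul_def] using hxQ
  refine ⟨⟨⟨fun x y => Subtype.ext ?_⟩⟩, fun x hx => ?_⟩
  · have h := congrArg Subtype.val (hab.is_comm.comm ⟨_, hmem x x.2⟩ ⟨_, hmem y y.2⟩)
    simp only [Subgroup.coe_mul] at h ⊢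
    calc (x : G) * y = g * ((g⁻¹ * x * g) * (g⁻¹ * y * g)) * g⁻¹ := by group
      _ = g * ((g⁻¹ * y * g) * (g⁻¹ * x * g)) * g⁻¹ := by rw [h]
      _ = (y : G) * x := by group
  · calc x ^ p = (g * (g⁻¹ * x * g) * g⁻¹) ^ p := by group
      _ = 1 := by rw [conj_pow, hexp _ (hmem x hx), mul_one, mul_inv_cancel]

theorem sylow_subgroup_comm (hS : ∀ A : Subgroup G, IsPGroup p A → IsMulCommutative A)
    (H : Subgroup G) (Q : Sylow p H) : IsMulCommutative (Q : Subgroup H) := by
  have h := hS _ (Q.2.map H.subtype)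
  refine ⟨⟨fun x y => Subtype.ext (Subtype.ext ?_)⟩⟩
  have e := congrArg Subtype.val
    (h.is_comm.comm ⟨_, ⟨x.1, x.2, rfl⟩⟩ ⟨_, ⟨y.1, y.2, rfl⟩⟩)
  simpa using e

theorem mem_coreOf_of_mem_closure (hS : ∀ A : Subgroup G, IsPGroup p A → IsMulCommutative A)
    {H : Subgroup G} (hsol : Group.IsSolvable H) {y : G}
    (hy : y ∈ Subgroup.closure {x : G | x ∈ H ∧ x ^ p = 1}) (hyp : ¬ p ∣ orderOf y) :
    y ∈ coreOf p H := by
  have hmap : (Subgroup.closure {x : H | x ^ p = 1}).map H.subtype =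
      Subgroup.closure {x : G | x ∈ H ∧ x ^ p = 1} := by
    rw [MonoidHom.map_closure]
    congr 1
    ext x
    simp only [Set.mem_image, Set.mem_ofPred_eq, Subgroup.coe_subtype]
    constructor
    · rintro ⟨w, hw, rfl⟩
      exact ⟨w.2, by rw [← SubmonoidClass.coe_pow, hw, Subgroup.coe_one]⟩
    · rintro ⟨hxH, hxp⟩
      exact ⟨⟨x, hxH⟩, Subtype.ext hxp, rfl⟩
  rw [← hmap] at hy
  obtain ⟨w, hw, rfl⟩ := hy
  exact ⟨w, mem_pPrimeCore_of_mem_closure hsol (sylow_subgroup_comm hS H) hw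
    (by rwa [Subgroup.coe_subtype, Subgroup.orderOf_coe] at hyp), rfl⟩

theorem conj_mul_inv_mem_closure {H : Subgroup G} {x r : G} (hx : x ∈ H) (hr : r ∈ H)
    (hrp : r ^ p = 1) : ⁅x, r⁆ ∈ Subgroup.closure {y : G | y ∈ H ∧ y ^ p = 1} := by
  rw [commutatorElement_def]
  exact mul_mem
    (Subgroup.subset_closure ⟨mul_mem (mul_mem hx hr) (inv_mem hx),
      by rw [conj_pow, hrp, mul_one, mul_inv_cancel]⟩)
    (inv_mem (Subgroup.subset_closure ⟨hr, hrp⟩))

/-- The criterion: `u` is in the `p'`-core of `H` if each element of a Sylow subgroup normalizes a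
`p'`-subgroup containing `u`. -/
theorem mem_coreOf_of_normalized (hS : ∀ A : Subgroup G, IsPGroup p A → IsMulCommutative A)
    (hE : ∀ A : Subgroup G, IsPGroup p A → ∀ x ∈ A, x ^ p = 1)
    {H : Subgroup G} (hsol : Group.IsSolvable H) (Q : Sylow p G) (hQ : (Q : Subgroup G) ≤ H)
    {u : G} (huH : u ∈ H) (hu : ¬ p ∣ orderOf u)
    (hX : ∀ n ∈ (Q : Subgroup G), ∃ X : Subgroup G,
      u ∈ X ∧ ¬ p ∣ Nat.card X ∧ n ∈ Subgroup.normalizer (X : Set G)) :
    u ∈ coreOf p H := by
  refine ⟨⟨u, huH⟩, mem_pPrimeCore_of_commutator hsol (Q.subtype hQ)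
    (by rwa [← Subgroup.orderOf_coe]) fun q hq => ?_, rfl⟩
  obtain ⟨X, huX, hXp, hnX⟩ := hX q hq
  have hcX : ⁅u, (q : G)⁆ ∈ X := by
    rw [commutatorElement_def, mul_assoc, mul_assoc]
    exact mul_mem huX (by
      simpa [mul_assoc] using (Subgroup.mem_normalizer_iff.mp hnX u⁻¹).mp (inv_mem huX))
  obtain ⟨w, hw, hwe⟩ := mem_coreOf_of_mem_closure hS hsol
    (conj_mul_inv_mem_closure huH q.2 (hE _ Q.2 _ hq)) (not_dvd_orderOf_of_mem hXp hcX)
  have : w = ⁅(⟨u, huH⟩ : H), q⁆ := Subtype.ext (by rw [← Subgroup.coe_subtype, hwe]; rfl)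
  rwa [← this]

/-- A product of two elements with `x ^ p = 1` that equals `z * u` has `u` in `O_{p'}(C(z))`. -/
theorem mem_centralizerPPrimeCore_of_mul {G : Type*} [Group G] [Finite G] {p : ℕ} [Fact p.Prime]
    (P : Sylow p G) (hab : IsMulCommutative (P : Subgroup G))
    (hexp : ∀ x ∈ (P : Subgroup G), x ^ p = 1)
    (hpairs : ∀ a b : G, Group.IsSolvable (Subgroup.closure ({a, b} : Set G)))
    (hcent : ∀ x : G, x ≠ 1 → x ^ p = 1 → Group.IsSolvable (Subgroup.centralizer ({x} : Set G)))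
    {c d z u : G} (hc : c ^ p = 1) (hd : d ^ p = 1) (hz : z ^ p = 1) (hz1 : z ≠ 1)
    (hu : ¬ p ∣ orderOf u) (hzu : Commute z u) (hcd : c * d = z * u) :
    u ∈ Cfsg.centralizerPPrimeCore p z := by
  show u ∈ coreOf p (Subgroup.centralizer ({z} : Set G))
  have hp : p.Prime := Fact.out
  have hS : ∀ A : Subgroup G, IsPGroup p A → IsMulCommutative A :=
    fun A hA => (sylow_comm_exp P hab hexp hA).1
  have hE : ∀ A : Subgroup G, IsPGroup p A → ∀ x ∈ A, x ^ p = 1 :=
    fun A hA => (sylow_comm_exp P hab hexp hA).2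
  obtain ⟨L, hLdef⟩ : ∃ L, L = Subgroup.closure ({c, d} : Set G) := ⟨_, rfl⟩
  have hsolL : Group.IsSolvable L := hLdef ▸ hpairs c d
  have hcL : c ∈ L := hLdef ▸ Subgroup.subset_closure (by simp)
  have hdL : d ∈ L := hLdef ▸ Subgroup.subset_closure (by simp)
  have hgenL : L ≤ Subgroup.closure {x : G | x ∈ L ∧ x ^ p = 1} := by
    conv_lhs => rw [hLdef]
    rw [Subgroup.closure_le]
    rintro x (rfl | rfl)
    · exact Subgroup.subset_closure ⟨hcL, hc⟩
    · exact Subgroup.subset_closure ⟨hdL, hd⟩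
  have hzuL : z * u ∈ L := hcd ▸ mul_mem hcL hdL
  have huL : u ∈ L := by
    obtain ⟨m, hm⟩ := exists_pow_eq_self_of_coprime (hp.coprime_iff_not_dvd.mpr hu)
    have : (z * u) ^ p ∈ L := pow_mem hzuL p
    rw [hzu.mul_pow, hz, one_mul] at this
    exact hm ▸ pow_mem this m
  have hzL : z ∈ L := by simpa using mul_mem hzuL (inv_mem huL)
  obtain ⟨O, hOdef⟩ : ∃ O, O = coreOf p L := ⟨_, rfl⟩
  have hOL : O ≤ L := hOdef ▸ coreOf_le L
  have hOp : ¬ p ∣ Nat.card O := hOdef ▸ not_dvd_card_coreOf L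
  have hLO : L ≤ Subgroup.normalizer (O : Set G) := hOdef ▸ le_normalizer_coreOf L
  have huO : u ∈ O := hOdef ▸ mem_coreOf_of_mem_closure hS hsolL (hgenL huL) hu
  have hzz : IsPGroup p (Subgroup.zpowers (⟨z, hzL⟩ : L)) := by
    refine IsPGroup.of_card_dvd_pow (n := 1) ?_
    rw [Nat.card_zpowers, pow_one]
    exact orderOf_dvd_of_pow_eq_one (Subtype.ext hz)
  obtain ⟨S, hzS⟩ := hzz.exists_le_sylow
  obtain ⟨R, hRdef⟩ : ∃ R, R = (S : Subgroup L).map L.subtype := ⟨_, rfl⟩
  have hRp : IsPGroup p R := hRdef ▸ S.2.map _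
  have hRL : R ≤ L := hRdef ▸ Subgroup.map_subtype_le _
  have hzR : z ∈ R := hRdef ▸ ⟨⟨z, hzL⟩, hzS (Subgroup.mem_zpowers _), rfl⟩
  have hRc := hS R hRp
  have hRe := hE R hRp
  have hgenL' : Subgroup.closure {x : L | x ^ p = 1} = ⊤ := by
    refine Subgroup.map_injective L.subtype_injective ?_
    rw [MonoidHom.map_closure, ← MonoidHom.range_eq_map, Subgroup.range_subtype]
    refine le_antisymm ((Subgroup.closure_le L).mpr ?_) (hgenL.trans (Subgroup.closure_mono ?_))
    · rintro _ ⟨x, -, rfl⟩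
      exact x.2
    · rintro x ⟨hxL, hxp⟩
      exact ⟨⟨x, hxL⟩, Subtype.ext hxp, rfl⟩
  have htop : O ⊔ R = L := by
    rw [hOdef, hRdef, coreOf, ← Subgroup.map_sup,
      pPrimeCore_sup_sylow_eq_top hsolL (sylow_subgroup_comm hS L) hgenL' S,
      ← MonoidHom.range_eq_map, Subgroup.range_subtype]
  have hRN : R ≤ Subgroup.normalizer (O : Set G) := hRL.trans hLO
  obtain ⟨k, hk⟩ := IsPGroup.iff_card.mp hRp
  have hcop : (Nat.card R).Coprime (Nat.card O) := by
    rw [hk]; exact (hp.coprime_iff_not_dvd.mpr hOp).pow_left k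
  have hgen : ⁅O, R⁆ = O := by
    refine le_antisymm (Coprime.commutator_le_of_le_normalizer hRN) fun o ho => ?_
    have hn : L ≤ Subgroup.normalizer ((⁅O, R⁆ ⊔ R : Subgroup G) : Set G) := by
      rw [← htop, sup_le_iff]
      refine ⟨?_, le_sup_right.trans Subgroup.le_normalizer⟩
      intro g hg
      refine Coprime.le_normalizer_of_conj_mem (A := Subgroup.zpowers g) (fun a ha x hx => ?_)
        (Subgroup.mem_zpowers g)
      have haO : a ∈ O := Subgroup.zpowers_le.mpr hg ha
      rw [Subgroup.sup_eq_closure] at hx ⊢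
      induction hx using Subgroup.closure_induction with
      | mem y hy =>
        rcases hy with hy | hy
        · exact Subgroup.subset_closure
            (Or.inl (Coprime.conj_commutator_mem (Subgroup.mem_sup_left haO) hy))
        · rw [show a * y * a⁻¹ = ⁅a, y⁆ * y by rw [commutatorElement_def]; group]
          exact mul_mem (Subgroup.subset_closure (Or.inl (Subgroup.commutator_mem_commutator haO hy)))
            (Subgroup.subset_closure (Or.inr hy))
      | one => simp
      | mul a' b' _ _ iha ihb => simpa [mul_assoc] using mul_mem iha ihb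
      | inv a' _ iha => simpa [mul_assoc] using inv_mem iha
    have hMR : L ≤ ⁅O, R⁆ ⊔ R := by
      refine le_trans hgenL ((Subgroup.closure_le _).mpr ?_)
      rintro x ⟨hxL, hxp⟩
      have hxS : IsPGroup p (Subgroup.zpowers (⟨x, hxL⟩ : L)) := by
        refine IsPGroup.of_card_dvd_pow (n := 1) ?_
        rw [Nat.card_zpowers, pow_one]
        exact orderOf_dvd_of_pow_eq_one (Subtype.ext hxp)
      obtain ⟨T, hT⟩ := hxS.exists_le_sylow
      obtain ⟨l, rfl⟩ := MulAction.exists_smul_eq L S T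
      have hx' := hT (Subgroup.mem_zpowers (⟨x, hxL⟩ : L))
      rw [Sylow.coe_subgroup_smul, Subgroup.mem_pointwise_smul_iff_inv_smul_mem] at hx'
      have hmem : (l : G)⁻¹ * x * l ∈ R :=
        hRdef ▸ ⟨_, hx', by simp [MulAut.smul_def]⟩
      have := (Subgroup.mem_normalizer_iff.mp (hn l.2) _).mp
        (Subgroup.mem_sup_right (S := ⁅O, R⁆) hmem)
      simpa [mul_assoc] using this
    have ho' : o ∈ ((⁅O, R⁆ ⊔ R : Subgroup G) : Set G) := hMR (hOL ho)
    rw [Subgroup.coe_mul_of_right_le_normalizer_left _ _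
      (Subgroup.normalizer_commutator_ge_right O R)] at ho'
    obtain ⟨m, hm, r, hr, rfl⟩ := ho'
    have hrO : r ∈ O := by
      simpa using mul_mem (inv_mem (Coprime.commutator_le_of_le_normalizer hRN hm)) ho
    have hbot := Constrained.disjoint_of_isPGroup_of_not_dvd hRp hOp
    have hr1 : r = 1 := Subgroup.mem_bot.mp (hbot.le ⟨hr, hrO⟩)
    simpa [hr1] using hm
  have hzC : ∀ {a : G}, a ∈ R → R ≤ Subgroup.centralizer ({a} : Set G) := fun {a} ha r hr =>
    Subgroup.mem_centralizer_singleton_iff.mpr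
      (congrArg Subtype.val (hRc.is_comm.comm ⟨r, hr⟩ ⟨a, ha⟩))
  have hpiece : ∀ a ∈ R, a ≠ 1 → ⁅O ⊓ Subgroup.centralizer ({a} : Set G), R⁆ ≤
      coreOf p (Subgroup.centralizer ({a} : Set G)) := by
    intro a ha ha1
    rw [Subgroup.commutator_le]
    intro x hx r hr
    refine mem_coreOf_of_mem_closure hS (hcent a ha1 (hRe a ha))
      (conj_mul_inv_mem_closure hx.2 (hzC ha hr) (hRe r hr))
      (not_dvd_orderOf_of_mem hOp ?_)
    exact Coprime.commutator_le_of_le_normalizer hRN (Subgroup.commutator_mem_commutator hx.1 hr)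
  obtain ⟨Q, hRQ⟩ := hRp.exists_le_sylow
  have hQC : ∀ {A : Subgroup G}, A ≤ R → (Q : Subgroup G) ≤ Subgroup.centralizer (A : Set G) :=
    fun {A} hA q hq => Subgroup.mem_centralizer_iff.mpr fun a ha =>
      congrArg Subtype.val ((hS _ Q.2).is_comm.comm ⟨a, hRQ (hA ha)⟩ ⟨q, hq⟩)
  have hQz : (Q : Subgroup G) ≤ Subgroup.centralizer ({z} : Set G) :=
    (hQC le_rfl).trans (Subgroup.centralizer_le (Set.singleton_subset_iff.mpr hzR))
  have huz : u ∈ Subgroup.centralizer ({z} : Set G) :=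
    Subgroup.mem_centralizer_singleton_iff.mpr hzu.symm.eq
  by_cases hcyc : IsCyclic R
  · by_cases hc1 : c = 1
    · have hu1 : u ^ p = 1 := by
        have := hcd ▸ (show (c * d) ^ p = 1 by rw [hc1, one_mul, hd])
        rwa [hzu.mul_pow, hz, one_mul] at this
      have hu1' : u = 1 := orderOf_eq_one_iff.mp
        ((Nat.dvd_prime hp).mp (orderOf_dvd_of_pow_eq_one hu1) |>.resolve_right
          fun e => hu (dvd_of_eq e.symm))
      exact hu1' ▸ one_mem _
    have hR : R = Subgroup.zpowers z := by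
      refine (Subgroup.eq_of_le_of_card_ge (Subgroup.zpowers_le.mpr hzR) ?_).symm
      obtain ⟨g, hg⟩ := hcyc.exists_generator
      rw [← orderOf_eq_card_of_forall_mem_zpowers hg, Nat.card_zpowers,
        orderOf_eq_prime hz hz1, ← Subgroup.orderOf_coe]
      exact Nat.le_of_dvd hp.pos (orderOf_dvd_of_pow_eq_one (hRe g g.2))
    have hconj : ∀ x ∈ L, x ^ p = 1 → ∃ a ∈ L, ∃ i : ℤ, x = (a * z * a⁻¹) ^ i := by
      intro x hxL hxp
      have hxS : IsPGroup p (Subgroup.zpowers (⟨x, hxL⟩ : L)) := by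
        refine IsPGroup.of_card_dvd_pow (n := 1) ?_
        rw [Nat.card_zpowers, pow_one]
        exact orderOf_dvd_of_pow_eq_one (Subtype.ext hxp)
      obtain ⟨T, hT⟩ := hxS.exists_le_sylow
      obtain ⟨l, rfl⟩ := MulAction.exists_smul_eq L S T
      have hx' := hT (Subgroup.mem_zpowers (⟨x, hxL⟩ : L))
      rw [Sylow.coe_subgroup_smul, Subgroup.mem_pointwise_smul_iff_inv_smul_mem] at hx'
      have hmem : (l : G)⁻¹ * x * l ∈ R :=
        hRdef ▸ ⟨_, hx', by simp [MulAut.smul_def]⟩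
      obtain ⟨i, hi⟩ := Subgroup.mem_zpowers_iff.mp (hR ▸ hmem)
      exact ⟨l, l.2, i, by rw [conj_zpow, hi]; group⟩
    obtain ⟨a, haL, i, hci⟩ := hconj c hcL hc
    obtain ⟨b, hbL, j, hdj⟩ := hconj d hdL hd
    obtain ⟨k, hkdef⟩ : ∃ k, k = a⁻¹ * b := ⟨_, rfl⟩
    have hkL : k ∈ L := hkdef ▸ mul_mem (inv_mem haL) hbL
    have hL2 : L ≤ Subgroup.closure ({z, k * z * k⁻¹} : Set G) := by
      intro x hx
      have hle : L ≤ (Subgroup.closure ({z, k * z * k⁻¹} : Set G)).map
          (MulAut.conj a).toMonoidHom := by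
        conv_lhs => rw [hLdef]
        rw [Subgroup.closure_le]
        rintro y (rfl | rfl)
        · rw [hci]
          exact zpow_mem (Subgroup.mem_map.mpr ⟨z, Subgroup.subset_closure (by simp), rfl⟩) i
        · rw [hdj]
          exact zpow_mem (Subgroup.mem_map.mpr ⟨k * z * k⁻¹, Subgroup.subset_closure (by simp), by
            simp [hkdef, mul_assoc]⟩) j
      obtain ⟨y, hy, hye⟩ := hle (mul_mem (mul_mem haL hx) (inv_mem haL))
      exact (MulAut.conj a).injective (show MulAut.conj a y = MulAut.conj a x from hye) ▸ hy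
    refine mem_coreOf_of_normalized hS hE (hcent z hz1 hz) Q hQz huz hu fun n hn => ?_
    obtain ⟨B, hBdef⟩ : ∃ B, B = Subgroup.closure ({z, k * n} : Set G) := ⟨_, rfl⟩
    have hzB : z ∈ B := hBdef ▸ Subgroup.subset_closure (by simp)
    have hknB : k * n ∈ B := hBdef ▸ Subgroup.subset_closure (by simp)
    have hLB : L ≤ B := by
      refine hL2.trans ((Subgroup.closure_le _).mpr ?_)
      rintro y (rfl | rfl)
      · exact hzB
      · have hnz : n * z * n⁻¹ = z := by
          rw [Subgroup.mem_centralizer_singleton_iff.mp (hQz hn), mul_inv_cancel_right]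
        have := mul_mem (mul_mem hknB hzB) (inv_mem hknB)
        rwa [mul_inv_rev, show k * n * z * (n⁻¹ * k⁻¹) = k * (n * z * n⁻¹) * k⁻¹ by group, hnz]
          at this
    have hnB : n ∈ B := by simpa using mul_mem (inv_mem (hLB hkL)) hknB
    have hsolB : Group.IsSolvable B := hBdef ▸ hpairs z (k * n)
    refine ⟨coreOf p B, ?_, not_dvd_card_coreOf B, le_normalizer_coreOf B hnB⟩
    refine mem_coreOf_of_mem_closure hS hsolB ?_ hu
    have : ⁅O, R⁆ ≤ Subgroup.closure {y : G | y ∈ B ∧ y ^ p = 1} :=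
      Subgroup.commutator_le.mpr fun x hx r hr =>
        conj_mul_inv_mem_closure (hLB (hOL hx)) (hLB (hRL hr)) (hRe r hr)
    exact this (hgen.ge huO)
  · have hsplit := Coprime.eq_commutator_sup_centralizer (A := R)
      (G := O ⊓ Subgroup.centralizer ({z} : Set G))
      (Coprime.le_normalizer_inf' hRN ((hzC hzR).trans Subgroup.le_normalizer))
      (Coprime.coprime_of_le le_rfl inf_le_left hcop)
      (Or.inl (Coprime.isSolvable_of_isMulCommutative hRc))
    suffices h2 : O ⊓ Subgroup.centralizer (R : Set G) ≤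
        coreOf p (Subgroup.centralizer ({z} : Set G)) from
      (hsplit.ge.trans (sup_le (hpiece z hzR hz1) ((inf_le_inf_right _ inf_le_left).trans h2)))
        ⟨huO, huz⟩
    have hD : O ⊓ Subgroup.centralizer (R : Set G) ≤
        coreOf p (Subgroup.centralizer (R : Set G)) := by
      refine centralizer_le_of_pieces R O _ hRc hRe hcyc hRN hOp
        (Coprime.isSolvable_of_le hOL hsolL) hgen fun a ha ha1 => ?_
      have hRa : Subgroup.centralizer (R : Set G) ≤ Subgroup.centralizer ({a} : Set G) :=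
        Subgroup.centralizer_le (Set.singleton_subset_iff.mpr ha)
      refine (inf_le_inf_right _ (hpiece a ha ha1)).trans (le_coreOf inf_le_right
        (Coprime.le_normalizer_inf' (hRa.trans (le_normalizer_coreOf _)) Subgroup.le_normalizer) ?_)
      exact fun h => not_dvd_card_coreOf (Subgroup.centralizer ({a} : Set G))
        (h.trans (Subgroup.card_dvd_of_le inf_le_left))
    intro w hw
    refine mem_coreOf_of_normalized hS hE (hcent z hz1 hz) Q hQz
      (Subgroup.centralizer_le (Set.singleton_subset_iff.mpr hzR) hw.2)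
      (not_dvd_orderOf_of_mem hOp hw.1) fun n hn => ?_
    exact ⟨_, hD hw, not_dvd_card_coreOf _, le_normalizer_coreOf _ (hQC le_rfl hn)⟩

end Ambient

end CfsgLib.TwoGenSolv82
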