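import Cfsg.Agent.Blocks.HeightZero.PrincipalSection
import Cfsg.Agent.Blocks.PrincipalSolvable
import Cfsg.Agent.Constrained.PSolvable
import Cfsg.Agent.LocalP.Basic
import Cfsg.Agent.Eq.Def_Local

/-!
The columns of the principal block at the section of a `p`-element with solvable centraliser.
-/

set_option autoImplicit false
set_option linter.style.haveILetI false
set_option linter.unusedSectionVars false

namespace CfsgLib.TwoGenSolv82

open Cfsg CfsgLib
open scoped ComplexConjugate

universe u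

variable {G : Type u} [Group G] [Fintype G] {p : ℕ} [Fact p.Prime] {M : Ideal AlgInt} {z : G}

/-- In a solvable group the principal block is given by the kernel condition. -/
theorem mem_principalBlock_iff_core {C : Type u} [Group C] [Finite C] (hM : IsPModular p M)
    (hC : Group.IsSolvable C) (χ : IrrCharacter C) :
    χ ∈ principalBlock M C ↔ pPrimeCore p C ≤ Chars.charKer (χ : C → ℂ) := by
  haveI := hC
  haveI := hM.2.1
  haveI := Fintype.ofFinite C
  exact ⟨fun h => Blocks.le_charKer_of_mem_principalBlock _ hM Constrained.pPrimeCore_not_dvd h,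
    fun h => Blocks.mem_principalBlock_of_pPrimeCore_le hM Constrained.isPSolvable_of_isSolvable h⟩

/-- An element central in the quotient by the `p'`-core of a solvable group is a `p`-element
modulo the core. -/
theorem mem_core_of_central {C : Type u} [Group C] [Finite C] (hC : Group.IsSolvable C) {u : C}
    (hu : ¬ p ∣ orderOf u)
    (hz : ∀ g : C, (QuotientGroup.mk (u * g * u⁻¹ * g⁻¹) : C ⧸ pPrimeCore p C) = 1) :
    u ∈ pPrimeCore p C := by
  haveI := hC
  haveI := pPrimeCore_normal p C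
  haveI := pCore_normal p (C ⧸ pPrimeCore p C)
  have hmem : (QuotientGroup.mk u : C ⧸ pPrimeCore p C) ∈ pCore p (C ⧸ pPrimeCore p C) := by
    refine Constrained.centralizer_pCore_quotient_le Constrained.isPSolvable_of_isSolvable
      (Subgroup.mem_centralizer_iff.2 fun y _ => ?_)
    obtain ⟨g, rfl⟩ := QuotientGroup.mk_surjective y
    have h := hz g
    simp only [QuotientGroup.mk_mul, QuotientGroup.mk_inv] at h
    exact (mul_inv_eq_iff_eq_mul.1 (mul_inv_eq_one.1 h)).symm
  obtain ⟨k, hk⟩ := LocalP.isPGroup_pCore ⟨_, hmem⟩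
  have hd : orderOf (QuotientGroup.mk u : C ⧸ pPrimeCore p C) ∣ p ^ k :=
    orderOf_dvd_of_pow_eq_one (congrArg Subtype.val hk)
  have hd' : orderOf (QuotientGroup.mk u : C ⧸ pPrimeCore p C) ∣ orderOf u :=
    orderOf_map_dvd (QuotientGroup.mk' (pPrimeCore p C)) u
  have h1 : orderOf (QuotientGroup.mk u : C ⧸ pPrimeCore p C) = 1 := by
    have hc : Nat.Coprime (p ^ k) (orderOf u) :=
      Nat.Coprime.pow_left k ((Nat.Prime.coprime_iff_not_dvd Fact.out).2 hu)
    exact Nat.eq_one_of_dvd_one (hc ▸ Nat.dvd_gcd hd hd')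
  exact (QuotientGroup.eq_one_iff u).1 (orderOf_eq_one_iff.1 h1)

/-- The principal block of `G` does not separate the cosets of `z` modulo `O_{p'}(C(z))`. -/
theorem apply_mul_eq_of_mem_centralizerPPrimeCore (hM : IsPModular p M)
    (hz : ∃ k, orderOf z = p ^ k) {u : G} (hu : u ∈ centralizerPPrimeCore p z)
    {χ : IrrCharacter G} (hχ : χ ∈ principalBlock M G) :
    (χ : G → ℂ) (z * u) = (χ : G → ℂ) z := by
  classical
  haveI := hM.2.1
  obtain ⟨u', hu', rfl⟩ := Subgroup.mem_map.1 hu
  haveI := Fintype.ofFinite (Subgroup.centralizer ({z} : Set G))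
  haveI := pPrimeCore_normal p (Subgroup.centralizer ({z} : Set G))
  have hreg : ¬ p ∣ orderOf u' := fun h =>
    Constrained.pPrimeCore_not_dvd (h.trans (Subgroup.orderOf_dvd_natCard _ hu'))
  have h1 := Blocks.HeightZero.apply_section_eq_blockPart hM hz hχ hreg
  have h2 := Blocks.HeightZero.apply_section_eq_blockPart hM hz hχ
    (s := (1 : Subgroup.centralizer ({z} : Set G)))
    (by rw [orderOf_one]; exact (Fact.out : p.Prime).not_dvd_one)
  rw [Subgroup.coe_one, mul_one] at h2
  rw [Subgroup.coe_subtype, h1, h2]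
  simp only [blockPart]
  refine finsum_mem_congr rfl fun ψ hψ => ?_
  rw [Chars.map_eq_map_one_of_mem_charKer (Blocks.le_charKer_of_mem_principalBlock _ hM
    Constrained.pPrimeCore_not_dvd hψ hu')]

theorem re_mul_conj (w : ℂ) : w * conj w = ((‖w‖ ^ 2 : ℝ) : ℂ) := by
  rw [Complex.mul_conj, Complex.normSq_eq_norm_sq]

/-- Conversely, equality in the Schwarz inequality puts `u` in `O_{p'}(C(z))`. -/
theorem mem_centralizerPPrimeCore_of_sum (hM : IsPModular p M) (hz : ∃ k, orderOf z = p ^ k)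
    (hsol : Group.IsSolvable (Subgroup.centralizer ({z} : Set G))) {u : G}
    (hu : u ∈ Subgroup.centralizer ({z} : Set G)) (hup : ¬ p ∣ orderOf u)
    (hsum : ∑ χ ∈ (principalBlock M G).toFinite.toFinset,
        (χ : G → ℂ) z * conj ((χ : G → ℂ) (z * u)) =
      ∑ χ ∈ (principalBlock M G).toFinite.toFinset, (χ : G → ℂ) z * conj ((χ : G → ℂ) z)) :
    u ∈ centralizerPPrimeCore p z := by
  classical
  haveI := hM.2.1
  haveI := Fintype.ofFinite (Subgroup.centralizer ({z} : Set G))
  haveI := pPrimeCore_normal p (Subgroup.centralizer ({z} : Set G))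
  set s : Subgroup.centralizer ({z} : Set G) := ⟨u, hu⟩ with hs
  have hreg : ¬ p ∣ orderOf s := by rwa [← Subgroup.orderOf_coe]
  have ha := Blocks.HeightZero.sum_principal_section hM hz hreg
  have hc := Blocks.HeightZero.sum_principal_section hM hz
    (s := (1 : Subgroup.centralizer ({z} : Set G)))
    (by rw [orderOf_one]; exact (Fact.out : p.Prime).not_dvd_one)
  rw [Subgroup.coe_one, mul_one] at hc
  set B0 := (principalBlock M G).toFinite.toFinset
  set b0 := (principalBlock M (Subgroup.centralizer ({z} : Set G))).toFinite.toFinset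
  simp only [re_mul_conj] at ha hc
  have ha' : ∑ χ ∈ B0, ‖(χ : G → ℂ) (z * u)‖ ^ 2 =
      ∑ ψ ∈ b0, ‖(ψ : Subgroup.centralizer ({z} : Set G) → ℂ) s‖ ^ 2 := by exact_mod_cast ha
  have hc' : ∑ χ ∈ B0, ‖(χ : G → ℂ) z‖ ^ 2 =
      ∑ ψ ∈ b0, ‖(ψ : Subgroup.centralizer ({z} : Set G) → ℂ) 1‖ ^ 2 := by exact_mod_cast hc
  have hle : ∀ ψ ∈ b0, ‖(ψ : Subgroup.centralizer ({z} : Set G) → ℂ) s‖ ^ 2 ≤
      ‖(ψ : Subgroup.centralizer ({z} : Set G) → ℂ) 1‖ ^ 2 := fun ψ _ =>
    pow_le_pow_left₀ (norm_nonneg _) (Chars.norm_apply_le (Chars.isCharacter_coe ψ) s) 2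
  have hsum' := congrArg Complex.re hsum
  have hdiff : ∑ χ ∈ B0, ‖(χ : G → ℂ) z - (χ : G → ℂ) (z * u)‖ ^ 2 =
      ∑ χ ∈ B0, ‖(χ : G → ℂ) (z * u)‖ ^ 2 - ∑ χ ∈ B0, ‖(χ : G → ℂ) z‖ ^ 2 := by
    have e1 : ∀ χ : IrrCharacter G, ((χ : G → ℂ) z * conj ((χ : G → ℂ) z)).re =
        ‖(χ : G → ℂ) z‖ ^ 2 := fun χ => by rw [re_mul_conj, Complex.ofReal_re]
    rw [Complex.re_sum, Complex.re_sum, Finset.sum_congr rfl fun χ _ => e1 χ] at hsum'
    have e2 : ∀ a c : ℂ, ‖c - a‖ ^ 2 = ‖c‖ ^ 2 + ‖a‖ ^ 2 - 2 * (c * conj a).re := fun a c => by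
      rw [← Complex.normSq_eq_norm_sq, ← Complex.normSq_eq_norm_sq, ← Complex.normSq_eq_norm_sq,
        Complex.normSq_sub]
    rw [Finset.sum_congr rfl fun χ _ => e2 _ _, Finset.sum_sub_distrib, Finset.sum_add_distrib,
      ← Finset.mul_sum, hsum']
    ring
  have heq : ∀ ψ ∈ b0, ‖(ψ : Subgroup.centralizer ({z} : Set G) → ℂ) s‖ =
      ‖(ψ : Subgroup.centralizer ({z} : Set G) → ℂ) 1‖ := by
    have h0 : 0 ≤ ∑ χ ∈ B0, ‖(χ : G → ℂ) z - (χ : G → ℂ) (z * u)‖ ^ 2 :=
      Finset.sum_nonneg fun χ _ => sq_nonneg _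
    rw [hdiff, ha', hc', sub_nonneg] at h0
    intro ψ hψ
    have := ((Finset.sum_eq_sum_iff_of_le hle).1
      (le_antisymm (Finset.sum_le_sum hle) h0)) ψ hψ
    exact (sq_eq_sq₀ (norm_nonneg _) (norm_nonneg _)).1 this
  refine Subgroup.mem_map.2 ⟨s, mem_core_of_central hsol hreg fun g => ?_, rfl⟩
  refine Chars.eq_one_of_forall_eq fun φ => ?_
  set χ := Chars.inflate (pPrimeCore p (Subgroup.centralizer ({z} : Set G))) φ with hχ
  have hb : χ ∈ b0 := (Set.Finite.mem_toFinset _).2
    ((mem_principalBlock_iff_core hM hsol χ).2 (Chars.le_charKer_inflate _ φ))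
  have hmain : (χ : Subgroup.centralizer ({z} : Set G) → ℂ) (s * g * s⁻¹ * g⁻¹) =
      (χ : Subgroup.centralizer ({z} : Set G) → ℂ) 1 := by
    have hn := heq χ hb
    obtain ⟨n, ρ, hρ, hχ'⟩ := χ.2
    rw [← hχ'] at hn ⊢
    have h1 : ρ.character 1 = n := by rw [Representation.char_one]; simp
    rw [h1, Complex.norm_natCast] at hn
    rcases eq_or_ne n 0 with rfl | hn0
    · exact (Chars.map_one_ne_zero χ (by rw [← hχ', h1, Nat.cast_zero])).elim
    have hsc := Chars.rep_eq_smul_of_norm_character_eq ρ hn0 hn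
    have e : ρ (s * g * s⁻¹ * g⁻¹) = 1 := by
      have hcomm : ρ s * ρ g = ρ g * ρ s := by
        rw [hsc, smul_mul_assoc, mul_smul_comm, one_mul, mul_one]
      rw [map_mul, map_mul, map_mul, hcomm, mul_assoc (ρ g), ← map_mul ρ s, mul_inv_cancel,
        map_one, mul_one, ← map_mul, mul_inv_cancel, map_one]
    simp [Representation.character, e]
  rw [hχ, Chars.inflate_apply, Chars.inflate_apply, QuotientGroup.mk_one] at hmain
  exact hmain

/-- The squared column of the principal block at `z`, for an abelian Sylow `p`-subgroup. -/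
theorem exists_sum_sq (hM : IsPModular p M) (P : Sylow p G) [IsMulCommutative P]
    (hzP : z ∈ (P : Subgroup G)) (hsol : Group.IsSolvable (Subgroup.centralizer ({z} : Set G))) :
    ∃ D : ℕ, ∑ χ ∈ (principalBlock M G).toFinite.toFinset,
        (χ : G → ℂ) z * conj ((χ : G → ℂ) z) = D ∧ 0 < D ∧
      Nat.card (P : Subgroup G) ∣ D ∧
      D ≤ Nat.card (P : Subgroup G) *
        (Subgroup.centralizer ((P : Subgroup G) : Set G)).relIndex
          (Subgroup.centralizer ({z} : Set G) ⊓ Subgroup.normalizer ((P : Subgroup G) : Set G)) := by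
  classical
  haveI := hM.2.1
  haveI := hsol
  set C := Subgroup.centralizer ({z} : Set G) with hC
  haveI := Fintype.ofFinite C
  haveI hθn := pPrimeCore_normal p C
  have hz : ∃ k, orderOf z = p ^ k := by
    obtain ⟨k, hk⟩ := (IsPGroup.iff_orderOf.1 P.2) ⟨z, hzP⟩
    exact ⟨k, by rwa [← Subgroup.orderOf_coe] at hk⟩
  have hcomm : ∀ a ∈ (P : Subgroup G), ∀ b ∈ (P : Subgroup G), a * b = b * a := fun a ha b hb =>
    congrArg Subtype.val
      (IsMulCommutative.is_comm.comm (⟨a, ha⟩ : (P : Subgroup G)) ⟨b, hb⟩)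
  have hPC : (P : Subgroup G) ≤ C := fun a ha =>
    Subgroup.mem_centralizer_singleton_iff.2 (hcomm a ha z hzP)
  set θ := pPrimeCore p C with hθ
  refine ⟨θ.index, ?_, Nat.pos_of_ne_zero Subgroup.index_ne_zero_of_finite, ?_, ?_⟩
  · have h := Blocks.HeightZero.sum_principal_section hM hz (s := (1 : C))
      (by rw [orderOf_one]; exact (Fact.out : p.Prime).not_dvd_one)
    rw [Subgroup.coe_one, mul_one] at h
    rw [h, ← Chars.sum_charDegree_sq_of_le_charKer θ, Nat.cast_sum]
    refine Finset.sum_congr ?_ fun ψ _ => ?_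
    · ext ψ
      rw [Set.Finite.mem_toFinset, Finset.mem_filter, mem_principalBlock_iff_core hM hsol ψ]
      simp [hθ]
    · rw [← Chars.coe_charDegree ψ, Nat.cast_pow, pow_two, map_natCast]
  · have hco : (Nat.card (P : Subgroup G)).Coprime (Nat.card θ) := by
      obtain ⟨k, hk⟩ := IsPGroup.iff_card.1 P.2
      rw [hk]
      exact Nat.Coprime.pow_left k
        ((Nat.Prime.coprime_iff_not_dvd Fact.out).2 Constrained.pPrimeCore_not_dvd)
    refine hco.dvd_of_dvd_mul_left ?_
    rw [θ.card_mul_index]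
    exact Subgroup.card_dvd_of_le hPC
  · let P' : Sylow p C := P.subtype hPC
    have hP' : (P' : Subgroup C) = (P : Subgroup G).subgroupOf C := rfl
    set π := QuotientGroup.mk' θ with hπ
    let Q : Sylow p (C ⧸ θ) := P'.mapSurjective (f := π) (QuotientGroup.mk'_surjective θ)
    haveI hOn := pCore_normal p (C ⧸ θ)
    set X := (pCore p (C ⧸ θ)).comap π with hX
    haveI : X.Normal := hOn.comap π
    have hself := Constrained.centralizer_pCore_quotient_le
      (Constrained.isPSolvable_of_isSolvable : IsPSolvable p C)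
    -- the image of the Sylow subgroup is the `p`-core of the quotient
    have hOQ : pCore p (C ⧸ θ) ≤ (Q : Subgroup (C ⧸ θ)) :=
      LocalP.isPGroup_pCore.le_sylow_of_normal Q
    have hQO : (Q : Subgroup (C ⧸ θ)) ≤ pCore p (C ⧸ θ) := by
      intro q hq
      refine hself (Subgroup.mem_centralizer_iff.2 fun y hy => ?_)
      obtain ⟨a, ha, rfl⟩ := Subgroup.mem_map.1
        (show q ∈ (P' : Subgroup C).map π from hq)
      obtain ⟨b, hb, rfl⟩ := Subgroup.mem_map.1
        (show y ∈ (P' : Subgroup C).map π from hOQ hy)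
      rw [← map_mul, ← map_mul]
      exact congrArg π (Subtype.ext (hcomm _ hb _ ha))
    have hPX : (P' : Subgroup C) ≤ X := Subgroup.map_le_iff_le_comap.1 hQO
    set N' := (C ⊓ Subgroup.normalizer ((P : Subgroup G) : Set G)).subgroupOf C
    set Z' := (Subgroup.centralizer ((P : Subgroup G) : Set G)).subgroupOf C
    have hN : Subgroup.normalizer ((P' : Subgroup C) : Set C) ≤ N' := by
      intro n hn
      refine Subgroup.mem_subgroupOf.2 ⟨n.2, Subgroup.mem_normalizer_iff.2 fun a => ?_⟩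
      constructor
      · intro ha
        exact (Subgroup.mem_normalizer_iff.1 hn ⟨a, hPC ha⟩).1 ha
      · intro ha
        have haC : a ∈ C := by
          have := C.mul_mem (C.mul_mem (C.inv_mem n.2) (hPC ha)) n.2
          rwa [show (n : G)⁻¹ * ((n : G) * a * (n : G)⁻¹) * (n : G) = a by group] at this
        exact (Subgroup.mem_normalizer_iff.1 hn ⟨a, haC⟩).2 ha
    have hfr : N' ⊔ X = ⊤ := by
      refine top_le_iff.1 ?_
      rw [← Sylow.normalizer_sup_eq_top' P' hPX]
      exact sup_le_sup_right hN X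
    have hZX : Z' ≤ X := by
      intro c hc
      refine Subgroup.mem_comap.2 (hself (Subgroup.mem_centralizer_iff.2 fun y hy => ?_))
      obtain ⟨b, hb, rfl⟩ := Subgroup.mem_map.1
        (show y ∈ (P' : Subgroup C).map π from hOQ hy)
      rw [← map_mul, ← map_mul]
      exact congrArg π (Subtype.ext
        (Subgroup.mem_centralizer_iff.1 (Subgroup.mem_subgroupOf.1 hc) _ hb))
    have hXi : X.index ≤ Z'.relIndex N' := by
      rw [← Subgroup.relIndex_top_right, ← hfr, Subgroup.relIndex_sup_right]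
      exact Subgroup.relIndex_le_of_le_left hZX Subgroup.index_ne_zero_of_finite
    have hrel : Z'.relIndex N' = (Subgroup.centralizer ((P : Subgroup G) : Set G)).relIndex
        (C ⊓ Subgroup.normalizer ((P : Subgroup G) : Set G)) :=
      Subgroup.relIndex_subgroupOf inf_le_left
    have hθX : θ ≤ X := fun x hx =>
      Subgroup.mem_comap.2 (by rw [hπ, QuotientGroup.mk'_apply, (QuotientGroup.eq_one_iff x).2 hx]; exact one_mem _)
    rw [← Subgroup.relIndex_mul_index hθX]
    refine Nat.mul_le_mul ?_ (hXi.trans hrel.le)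
    have hcard : θ.relIndex X = Nat.card (pCore p (C ⧸ θ)) := by
      have h1 : θ.relIndex X = ((⊥ : Subgroup (C ⧸ θ)).comap π).relIndex X := by
        rw [MonoidHom.comap_bot, hπ, QuotientGroup.ker_mk']
      rw [h1, hX, Subgroup.relIndex_comap,
        Subgroup.map_comap_eq_self_of_surjective (QuotientGroup.mk'_surjective θ),
        Subgroup.relIndex_bot_left]
    rw [hcard]
    have h2 : Nat.card (pCore p (C ⧸ θ)) ≤ Nat.card ((P' : Subgroup C).map π) :=
      Subgroup.card_le_of_le (show pCore p (C ⧸ θ) ≤ (P' : Subgroup C).map π from hOQ)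
    refine h2.trans ((Nat.le_of_dvd Nat.card_pos ((P' : Subgroup C).card_map_dvd π)).trans_eq ?_)
    exact Nat.card_congr (Subgroup.subgroupOfEquivOfLe hPC).toEquiv

end CfsgLib.TwoGenSolv82
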