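import Cfsg.Agent.TwoGenSolv82.TwoClasses
import Cfsg.Agent.TwoGenSolv82.Bound
import Cfsg.Agent.TwoGenSolv82.PairCore
import Cfsg.Agent.TwoGenSolv82.PureBlock

/-!
A finite group in which every two elements generate a solvable subgroup is solvable.

* `isSolvable_of_pairs`.
-/

set_option autoImplicit false

namespace CfsgLib.TwoGenSolv82

open Cfsg CfsgLib
open CfsgLib.Blocks CfsgLib.Blocks.AbelianFrobenius CfsgLib.ConjFunctor.CyclicPairs

universe u

/-- There is no simple minimal counterexample. -/
theorem false_of_twoGenMin {G : Type u} [Group G] [Finite G] [IsSimpleGroup G] (h : TwoGenMin G) :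
    False := by
  classical
  obtain ⟨p, hp, hp5, hdvd⟩ := h.exists_prime_five_le
  haveI : Fact p.Prime := ⟨hp⟩
  letI := Fintype.ofFinite G
  obtain ⟨P⟩ : Nonempty (Sylow p G) := inferInstance
  letI := Fintype.ofFinite (P : Subgroup G)
  have hel := h.elementary_sylow hp5 hdvd P
  haveI : IsMulCommutative (P : Subgroup G) := hel.1
  have hexp : ∀ x ∈ (P : Subgroup G), x ^ p = 1 := (LocalP.isElementaryAbelian_iff.1 hel).2
  obtain ⟨M, hM⟩ := exists_isPModular p hp
  have hcenter : Subgroup.center G = ⊥ :=
    (inferInstance : (Subgroup.center G).Normal).eq_bot_or_eq_top.resolve_right fun e =>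
      h.not_commutative ⟨⟨fun a b =>
        (Subgroup.mem_center_iff.1 (e ▸ Subgroup.mem_top b : b ∈ Subgroup.center G) a)⟩⟩
  have hcent : ∀ x : G, x ≠ 1 → Group.IsSolvable (Subgroup.centralizer ({x} : Set G)) :=
    fun x hx => h.proper _ fun htop => hx (by
      have : x ∈ Subgroup.center G := Subgroup.mem_center_iff.2 fun g =>
        Subgroup.mem_centralizer_singleton_iff.1 (htop ▸ Subgroup.mem_top g)
      rwa [hcenter, Subgroup.mem_bot] at this)
  have hC : Ctx P M :=
    { min := h
      five := hp5
      modular := hM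
      exp := hexp
      nc := h.not_isCyclic_sylow P hdvd
      pure := by
        intro c d z hc hd hz hz1 χ hχ
        obtain ⟨v, hv, hcomm, ⟨k, hk⟩, hvp⟩ := hz
        have hzp : z ^ p = 1 := by
          obtain ⟨g, hg⟩ := Ctx.exists_conj_mem (P := P) hk
          have h1 := hexp _ hg
          rw [conj_pow] at h1
          exact conj_eq_one_iff.1 h1
        rw [← hv]
        exact apply_mul_eq_of_mem_centralizerPPrimeCore hM ⟨k, hk⟩
          (mem_centralizerPPrimeCore_of_mul P hel.1 hexp h.pairs (fun x hx _ => hcent x hx)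
            hc hd hzp hz1 hvp hcomm hv.symm) (mem_block.1 hχ)
      detect := fun z hzP hz1 v hv hvp hsum => mem_centralizerPPrimeCore_of_sum hM
        (orderOf_eq_pow_of_mem P.2 hzP) (hcent z hz1) hv hvp hsum
      sumSq := fun z hzP hz1 => exists_sum_sq hM P hzP (hcent z hz1) }
  rcases hC.frob_or_transitive with hF | htr
  · exact hC.not_frob hF
  · exact hC.not_transitive htr

/-- A finite group in which every two elements generate a solvable subgroup is solvable. -/
theorem isSolvable_of_pairs {G : Type u} [Group G] [Finite G]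
    (h : ∀ a b : G, Group.IsSolvable (Subgroup.closure ({a, b} : Set G))) : Group.IsSolvable G := by
  suffices key : ∀ (n : ℕ) (G : Type u) [Group G] [Finite G], Nat.card G = n →
      (∀ a b : G, Group.IsSolvable (Subgroup.closure ({a, b} : Set G))) → Group.IsSolvable G from
    key _ G rfl h
  intro n
  induction n using Nat.strong_induction_on with
  | _ n ih =>
    intro G _ _ hn h
    have hproper : ∀ H : Subgroup G, H ≠ ⊤ → Group.IsSolvable H := by
      intro H hH
      refine ih _ ?_ H rfl (solvable_pairs_subgroup h H)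
      rw [← hn]
      exact lt_of_le_of_ne (Nat.le_of_dvd Nat.card_pos H.card_subgroup_dvd_card)
        fun e => hH (Subgroup.eq_top_of_card_eq H e)
    by_cases hnorm : ∃ N : Subgroup G, N.Normal ∧ N ≠ ⊥ ∧ N ≠ ⊤
    · obtain ⟨N, hNn, hN1, hN2⟩ := hnorm
      refine (Group.isSolvable_iff_subgroup_quotient N).2 ⟨hproper N hN2, ih _ ?_ (G ⧸ N) rfl ?_⟩
      · rw [← hn, Subgroup.card_eq_card_quotient_mul_card_subgroup N]
        exact lt_mul_of_one_lt_right Nat.card_pos (N.one_lt_card_iff_ne_bot.mpr hN1)
      · intro x y
        obtain ⟨a, rfl⟩ := QuotientGroup.mk'_surjective N x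
        obtain ⟨b, rfl⟩ := QuotientGroup.mk'_surjective N y
        haveI := h a b
        rw [← Set.image_pair, ← MonoidHom.map_closure]
        exact Group.isSolvable_of_surjective
          ((QuotientGroup.mk' N).subgroupMap_surjective (Subgroup.closure ({a, b} : Set G)))
    · push Not at hnorm
      by_cases hsol : Group.IsSolvable G
      · exact hsol
      exfalso
      haveI : Nontrivial G := by
        rw [← Finite.one_lt_card_iff_nontrivial]
        by_contra hle
        haveI : Subsingleton G := (Finite.card_le_one_iff_subsingleton).1 (not_lt.1 hle)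
        exact hsol inferInstance
      haveI : IsSimpleGroup G :=
        { eq_bot_or_eq_top_of_normal := fun N hN => or_iff_not_imp_left.2 (hnorm N hN) }
      exact false_of_twoGenMin ⟨h, hproper, hsol⟩

end CfsgLib.TwoGenSolv82
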