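import Cfsg.Agent.TwoGenSolv82.Setup

/-!
Real classes of elements of `P`: their values on the principal block as real numbers, the numbers
of products falling into a section, and the cubic sums over the block.

* `reVal`, `colNorm`, `sectionCount`;
* `Ctx.sum_triple`.
-/

set_option autoImplicit false

namespace CfsgLib.TwoGenSolv82

open Cfsg CfsgLib
open CfsgLib.Blocks CfsgLib.Blocks.AbelianFrobenius CfsgLib.ConjFunctor.CyclicPairs
open scoped ComplexConjugate

universe u

variable {G : Type u} [Group G] [Fintype G] {p : ℕ} [hp : Fact p.Prime] {P : Sylow p G}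
  {M : Ideal AlgInt}

/-- The real part of a value. -/
noncomputable def reVal (χ : IrrCharacter G) (g : G) : ℝ := ((χ : G → ℂ) g).re

/-- The degree as a real number. -/
noncomputable def degR (χ : IrrCharacter G) : ℝ := (charDegree (χ : G → ℂ) : ℝ)

omit hp in
theorem degR_pos (χ : IrrCharacter G) : 0 < degR χ := by
  rw [degR]; exact_mod_cast Chars.charDegree_pos χ

omit hp in
theorem coe_degR (χ : IrrCharacter G) : (degR χ : ℂ) = (χ : G → ℂ) 1 := by
  rw [degR, ← Chars.coe_charDegree, Complex.ofReal_natCast]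

omit hp in
theorem degR_one : degR (Chars.oneChar G) = 1 := by
  rw [degR, (Chars.charDegree_eq_one_iff _).2 (Chars.oneChar_apply 1), Nat.cast_one]

omit hp in
theorem reVal_one (g : G) : reVal (Chars.oneChar G) g = 1 := by
  rw [reVal, Chars.oneChar_apply, Complex.one_re]

omit hp in
theorem abs_reVal_le (χ : IrrCharacter G) (g : G) : |reVal χ g| ≤ degR χ := by
  have h := Chars.norm_apply_le (Chars.isCharacter_coe χ) g
  rw [← Chars.coe_charDegree, Complex.norm_natCast] at h
  exact (Complex.abs_re_le_norm _).trans h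

omit hp in
theorem coe_reVal {g : G} (hg : IsConj g g⁻¹) (χ : IrrCharacter G) :
    (reVal χ g : ℂ) = (χ : G → ℂ) g := by
  refine Complex.conj_eq_iff_re.1 ?_
  rw [← Chars.map_inv_eq_conj (Chars.isCharacter_coe χ)]
  obtain ⟨c, hc⟩ := isConj_iff.1 hg
  rw [← hc]
  exact Chars.isClassFunction_coe χ g c

omit hp in
theorem reVal_congr {g g' : G} (h : IsConj g g') (χ : IrrCharacter G) : reVal χ g = reVal χ g' := by
  obtain ⟨c, rfl⟩ := isConj_iff.1 h
  rw [reVal, reVal, Chars.isClassFunction_coe χ g c]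

/-- The squared column of a real element on the principal block. -/
noncomputable def colNorm (M : Ideal AlgInt) (g : G) : ℝ := ∑ χ ∈ block G M, reVal χ g ^ 2

open scoped _root_.Classical in
/-- The proportion of `x` for which `x u x⁻¹ v` has `p`-part conjugate to `w`. -/
noncomputable def sectionCount (p : ℕ) (u v w : G) : ℝ :=
  ((Finset.univ.filter fun g : G =>
    ∃ z, IsPPart p (g * u * g⁻¹ * v) z ∧ IsConj z w).card : ℝ) / Nat.card G

omit hp in
theorem sectionCount_nonneg (u v w : G) : 0 ≤ sectionCount p u v w := by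
  unfold sectionCount; positivity

omit hp in
theorem sectionCount_le_one (u v w : G) : sectionCount p u v w ≤ 1 := by
  classical
  rw [sectionCount, div_le_one (by exact_mod_cast Nat.card_pos), Nat.card_eq_fintype_card]
  exact_mod_cast Finset.card_le_univ _

omit hp in
theorem oneChar_mem (hC : IsPModular p M) : Chars.oneChar G ∈ block G M := by
  have := isMaximal_of_isPModular hC
  exact mem_block.2 oneChar_mem_principalBlock

namespace Ctx

variable [IsSimpleGroup G] [hab : IsMulCommutative (P : Subgroup G)]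

omit hab in
theorem colNorm_spec (hC : Ctx P M) {g : G} (hg : g ∈ (P : Subgroup G)) (hg1 : g ≠ 1)
    (hr : IsConj g g⁻¹) : ∃ D : ℕ, colNorm M g = D ∧ Nat.card (P : Subgroup G) ∣ D ∧ 0 < D := by
  obtain ⟨D, hD, hpos, hdvd, -⟩ := hC.sumSq g hg hg1
  refine ⟨D, ?_, hdvd, hpos⟩
  apply Complex.ofReal_injective
  rw [Complex.ofReal_natCast, ← hD, colNorm, Complex.ofReal_sum]
  refine Finset.sum_congr rfl fun χ _ => ?_
  rw [Complex.ofReal_pow, coe_reVal hr, pow_two, ← Chars.map_inv_eq_conj (Chars.isCharacter_coe χ)]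
  obtain ⟨c, hc⟩ := isConj_iff.1 hr
  rw [← hc, Chars.isClassFunction_coe χ g c]

omit hab in
theorem twenty_five_le_colNorm (hC : Ctx P M) {g : G} (hg : g ∈ (P : Subgroup G)) (hg1 : g ≠ 1)
    (hr : IsConj g g⁻¹) : (25 : ℝ) ≤ colNorm M g := by
  obtain ⟨D, hD, hdvd, hpos⟩ := hC.colNorm_spec hg hg1 hr
  rw [hD]
  exact_mod_cast hC.twenty_five_le_card.trans (Nat.le_of_dvd hpos hdvd)

omit hab in
theorem sum_deg_mul_eq_zero (hC : Ctx P M) {g : G} (hg : g ∈ (P : Subgroup G)) (hg1 : g ≠ 1)
    (hr : IsConj g g⁻¹) : ∑ χ ∈ block G M, degR χ * reVal χ g = 0 := by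
  apply Complex.ofReal_injective
  obtain ⟨k, hk⟩ := orderOf_eq_pow_of_mem P.2 hg
  rw [Complex.ofReal_zero, Complex.ofReal_sum,
    ← hC.sum_eq_zero_of_regular (g := 1) (h := g) (by simpa using hp.out.ne_one)
      ((dvd_orderOf_iff (isPPart_of_pow hk)).2 hg1)]
  refine Finset.sum_congr rfl fun χ _ => ?_
  rw [Complex.ofReal_mul, coe_degR, coe_reVal hr, ← Chars.map_inv_eq_conj (Chars.isCharacter_coe χ)]
  obtain ⟨c, hc⟩ := isConj_iff.1 hr
  rw [← hc, Chars.isClassFunction_coe χ g c]

omit hab in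
theorem sum_mul_eq_zero (hC : Ctx P M) {g g' : G} (hg : g ∈ (P : Subgroup G))
    (hg' : g' ∈ (P : Subgroup G)) (hr : IsConj g g⁻¹) (hr' : IsConj g' g'⁻¹)
    (hne : ¬ IsConj g' g) : ∑ χ ∈ block G M, reVal χ g * reVal χ g' = 0 := by
  apply Complex.ofReal_injective
  obtain ⟨k, hk⟩ := orderOf_eq_pow_of_mem P.2 hg
  obtain ⟨k', hk'⟩ := orderOf_eq_pow_of_mem P.2 hg'
  rw [Complex.ofReal_zero, Complex.ofReal_sum,
    ← hC.sum_eq_zero_of_pPart (isPPart_of_pow hk) (isPPart_of_pow hk') hne]
  refine Finset.sum_congr rfl fun χ _ => ?_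
  rw [Complex.ofReal_mul, coe_reVal hr, coe_reVal hr',
    ← Chars.map_inv_eq_conj (Chars.isCharacter_coe χ)]
  obtain ⟨c, hc⟩ := isConj_iff.1 hr'
  rw [← hc, Chars.isClassFunction_coe χ g' c]

omit hab in
open scoped _root_.Classical in
/-- The cubic sum over the block counts the products in a section. -/
theorem sum_triple (hC : Ctx P M) {u v w : G} (hu : u ∈ (P : Subgroup G))
    (hv : v ∈ (P : Subgroup G)) (hw : w ∈ (P : Subgroup G)) (hw1 : w ≠ 1)
    (hru : IsConj u u⁻¹) (hrv : IsConj v v⁻¹) (hrw : IsConj w w⁻¹) :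
    ∑ χ ∈ block G M, reVal χ u * reVal χ v * reVal χ w / degR χ =
      sectionCount p u v w * colNorm M w := by
  apply Complex.ofReal_injective
  obtain ⟨k, hk⟩ := orderOf_eq_pow_of_mem P.2 hw
  have hpw : IsPPart p w w := isPPart_of_pow hk
  have hcard : (Nat.card G : ℂ) ≠ 0 := by exact_mod_cast Nat.card_pos.ne'
  set h : G → G := fun g => g * u * g⁻¹ * v with hh
  have hterm : ∀ g : G, ∑ χ ∈ block G M, (χ : G → ℂ) (h g) * conj ((χ : G → ℂ) w) =
      if ∃ z, IsPPart p (h g) z ∧ IsConj z w then (colNorm M w : ℂ) else 0 := by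
    intro g
    obtain ⟨z, hz⟩ := exists_isPPart (G := G) hp.out (h g)
    split_ifs with hcase
    · obtain ⟨z', hz', hzw⟩ := hcase
      obtain rfl := isPPart_unique hp.out hz hz'
      have hz1 : z ≠ 1 := fun e => hw1 (isConj_one_right.1 (e ▸ hzw))
      rw [colNorm, Complex.ofReal_sum]
      refine Finset.sum_congr rfl fun χ hχ => ?_
      rw [hC.pure _ v z (hC.conj_pow_eq_one' hu g) (hC.exp v hv) hz hz1 χ hχ,
        ← coe_reVal hrw χ, Complex.conj_ofReal, Complex.ofReal_pow, pow_two]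
      congr 1
      obtain ⟨c, hc⟩ := isConj_iff.1 hzw
      rw [coe_reVal hrw χ, ← hc, Chars.isClassFunction_coe χ z c]
    · exact hC.sum_eq_zero_of_pPart hz hpw fun e => hcase ⟨z, hz, e.symm⟩
  have key : ∀ χ : IrrCharacter G,
      ((reVal χ u * reVal χ v * reVal χ w / degR χ : ℝ) : ℂ) =
        (Nat.card G : ℂ)⁻¹ * ∑ g : G, (χ : G → ℂ) (h g) * conj ((χ : G → ℂ) w) := by
    intro χ
    rw [← Finset.sum_mul, hh, sum_irrCharacter_conj_mul χ v u, Complex.ofReal_div,
      Complex.ofReal_mul, Complex.ofReal_mul, coe_degR, coe_reVal hru, coe_reVal hrv,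
      ← coe_reVal hrw χ, Complex.conj_ofReal]
    field_simp
  rw [Complex.ofReal_sum, Finset.sum_congr rfl fun χ _ => key χ, ← Finset.mul_sum,
    Finset.sum_comm, Finset.sum_congr rfl fun g _ => hterm g, ← Finset.sum_filter,
    Finset.sum_const, nsmul_eq_mul, sectionCount, Complex.ofReal_mul, Complex.ofReal_div,
    Complex.ofReal_natCast, Complex.ofReal_natCast]
  field_simp
  rw [mul_comm]

end Ctx

end CfsgLib.TwoGenSolv82
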