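import Cfsg.Agent.TwoGenSolv82.ZJ
import Cfsg.Agent.ConjFunctor.CyclicPairs.Family

/-!
The situation left by the ZJ theorem: a simple minimal counterexample with an elementary abelian
non-cyclic Sylow `p`-subgroup, `p ≥ 5`, together with what the principal block sees.

* `Ctx`;
* consequences: solvable centralizers, `p`-parts, regular products, column orthogonality.
-/

set_option autoImplicit false

namespace CfsgLib.TwoGenSolv82

open Cfsg CfsgLib
open CfsgLib.Blocks CfsgLib.Blocks.AbelianFrobenius CfsgLib.ConjFunctor.CyclicPairs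
open scoped ComplexConjugate

universe u

variable {G : Type u} [Group G] [Fintype G] {p : ℕ} [hp : Fact p.Prime]

/-- Elementary abelian non-cyclic Sylow subgroup, and the behaviour of the principal block on the
products of two elements of order `p`. -/
structure Ctx (P : Sylow p G) (M : Ideal AlgInt) : Prop where
  min : TwoGenMin G
  five : 5 ≤ p
  modular : IsPModular p M
  exp : ∀ x ∈ (P : Subgroup G), x ^ p = 1
  nc : ¬ IsCyclic (P : Subgroup G)
  pure : ∀ c d z : G, c ^ p = 1 → d ^ p = 1 → IsPPart p (c * d) z → z ≠ 1 →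
    ∀ χ ∈ block G M, (χ : G → ℂ) (c * d) = (χ : G → ℂ) z
  detect : ∀ z ∈ (P : Subgroup G), z ≠ 1 → ∀ v ∈ Subgroup.centralizer ({z} : Set G),
    ¬ p ∣ orderOf v →
    ∑ χ ∈ block G M, (χ : G → ℂ) z * conj ((χ : G → ℂ) (z * v)) =
      ∑ χ ∈ block G M, (χ : G → ℂ) z * conj ((χ : G → ℂ) z) →
    v ∈ centralizerPPrimeCore p z
  sumSq : ∀ z ∈ (P : Subgroup G), z ≠ 1 → ∃ D : ℕ,
    ∑ χ ∈ block G M, (χ : G → ℂ) z * conj ((χ : G → ℂ) z) = D ∧ 0 < D ∧
      Nat.card (P : Subgroup G) ∣ D ∧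
      D ≤ Nat.card (P : Subgroup G) *
        (Subgroup.centralizer ((P : Subgroup G) : Set G)).relIndex
          (Subgroup.centralizer ({z} : Set G) ⊓ Subgroup.normalizer ((P : Subgroup G) : Set G))

variable {P : Sylow p G} {M : Ideal AlgInt}

omit hp in
theorem isPPart_one {g : G} (hp' : p.Prime) (h : ¬ p ∣ orderOf g) : IsPPart p g 1 :=
  ⟨g, one_mul g, Commute.one_left g, ⟨0, by simp⟩, h⟩

theorem dvd_orderOf_iff {g w : G} (h : IsPPart p g w) : p ∣ orderOf g ↔ w ≠ 1 := by
  obtain ⟨-, -, -, h'⟩ := orderOf_eq_mul_of_isPPart h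
  exact h'

namespace Ctx

variable [IsSimpleGroup G]

theorem nontrivial (hC : Ctx P M) : Nontrivial (P : Subgroup G) := by
  rw [Subgroup.nontrivial_iff_ne_bot]
  intro hb
  exact hC.nc (hb ▸ isCyclic_of_subsingleton)

theorem center_eq_bot (hC : Ctx P M) : Subgroup.center G = ⊥ := by
  rcases (inferInstance : (Subgroup.center G).Normal).eq_bot_or_eq_top with h | h
  · exact h
  · exact (hC.min.not_commutative ⟨⟨fun a b =>
      (Subgroup.mem_center_iff.1 (h ▸ Subgroup.mem_top b : b ∈ Subgroup.center G) a)⟩⟩).elim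

theorem solvable_centralizer (hC : Ctx P M) {z : G} (hz : z ≠ 1) :
    Group.IsSolvable (Subgroup.centralizer ({z} : Set G)) := by
  refine hC.min.proper _ fun htop => hz ?_
  have : z ∈ Subgroup.center G := Subgroup.mem_center_iff.2 fun g =>
    Subgroup.mem_centralizer_singleton_iff.1 (htop ▸ Subgroup.mem_top g)
  rwa [hC.center_eq_bot, Subgroup.mem_bot] at this

theorem solvable_normalizer (hC : Ctx P M) :
    Group.IsSolvable (Subgroup.normalizer ((P : Subgroup G) : Set G)) := by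
  refine hC.min.proper _ fun htop => ?_
  rcases (Subgroup.normalizer_eq_top_iff.1 htop).eq_bot_or_eq_top with h | h
  · exact hC.nc (h ▸ isCyclic_of_subsingleton)
  · haveI : Group.IsNilpotent G := by
      haveI : Group.IsNilpotent (⊤ : Subgroup G) := (h ▸ P.2 : IsPGroup p (⊤ : Subgroup G)).isNilpotent
      exact (Group.isNilpotent_congr Subgroup.topEquiv).1 inferInstance
    exact hC.min.not_solvable inferInstance

/-- Every `p`-element is conjugate into `P`. -/
theorem exists_conj_mem {w : G} {k : ℕ} (hw : orderOf w = p ^ k) :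
    ∃ g : G, g * w * g⁻¹ ∈ (P : Subgroup G) := by
  obtain ⟨Q, hQ⟩ := (isPGroup_zpowers hw).exists_le_sylow
  obtain ⟨g, hg⟩ := MulAction.exists_smul_eq G Q P
  refine ⟨g, ?_⟩
  rw [← hg, Sylow.smul_def]
  exact ⟨w, hQ (Subgroup.mem_zpowers w), rfl⟩

theorem pow_eq_one (hC : Ctx P M) {w : G} {k : ℕ} (hw : orderOf w = p ^ k) : w ^ p = 1 := by
  obtain ⟨g, hg⟩ := exists_conj_mem (P := P) hw
  have h := hC.exp _ hg
  rw [conj_pow] at h
  exact conj_eq_one_iff.1 h

theorem pow_eq_one_of_isPPart (hC : Ctx P M) {g w : G} (h : IsPPart p g w) : w ^ p = 1 := by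
  obtain ⟨-, -, -, ⟨k, hk⟩, -⟩ := h
  exact hC.pow_eq_one hk

omit [Fintype G] [IsSimpleGroup G] in
theorem orderOf_eq_pow {w : G} (hw : w ^ p = 1) : ∃ k : ℕ, orderOf w = p ^ k := by
  obtain ⟨k, -, hk⟩ := (Nat.dvd_prime_pow hp.out).1
    (show orderOf w ∣ p ^ 1 by rw [pow_one]; exact orderOf_dvd_of_pow_eq_one hw)
  exact ⟨k, hk⟩

/-- In a solvable subgroup the factors of a regular product are inverse modulo the `p'`-core. -/
theorem mk_eq_inv [hab : IsMulCommutative (P : Subgroup G)] (hC : Ctx P M) {L : Subgroup G}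
    (hL : Group.IsSolvable L) {c b : L} (hc : c ^ p = 1) (hb : b ^ p = 1)
    (hreg : ¬ p ∣ orderOf (c * b)) :
    (c : L ⧸ pPrimeCore p L) = ((b⁻¹ : L) : L ⧸ pPrimeCore p L) := by
  have hcl : ClosedData P (P : Subgroup G) := closedData_of_abelian hC.five le_rfl
    (fun x hx y hy => congrArg Subtype.val (mul_comm' (⟨x, hx⟩ : (P : Subgroup G)) ⟨y, hy⟩))
    fun z _ g hg => hg
  have hmem : ∀ x : L, x ^ p = 1 →
      (x : L ⧸ pPrimeCore p L) ∈ pCore p (L ⧸ pPrimeCore p L) := fun x hx => by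
    obtain ⟨k, hk⟩ := orderOf_eq_pow (w := (x : G)) (by rw [← SubmonoidClass.coe_pow, hx]; rfl)
    exact hcl.stable L hL x (exists_conj_mem hk)
  obtain ⟨k, hk⟩ := orderOf_eq_pow_of_mem Constrained.isPGroup_pCore
    (mul_mem (hmem c hc) (hmem b hb))
  have hd : orderOf ((c * b : L) : L ⧸ pPrimeCore p L) ∣ orderOf (c * b) :=
    orderOf_map_dvd (QuotientGroup.mk' _) _
  have h1 : ((c * b : L) : L ⧸ pPrimeCore p L) = 1 := orderOf_eq_one_iff.1
    (Nat.eq_one_of_dvd_coprimes (((hp.out.coprime_iff_not_dvd).2 hreg).pow_left k)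
      (by rw [QuotientGroup.mk_mul, hk]) hd)
  rw [QuotientGroup.mk_inv]
  exact eq_inv_of_mul_eq_one_left (by rwa [← QuotientGroup.mk_mul])

/-- The factors of a regular product are conjugate up to inversion. -/
theorem isConj_of_regular [IsMulCommutative (P : Subgroup G)] (hC : Ctx P M) {c b : G}
    (hc : c ^ p = 1) (hb : b ^ p = 1) (hreg : ¬ p ∣ orderOf (c * b)) : IsConj c b⁻¹ := by
  let L := Subgroup.closure ({c, b} : Set G)
  let c' : L := ⟨c, Subgroup.subset_closure (Set.mem_insert _ _)⟩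
  let b' : L := ⟨b, Subgroup.subset_closure (Set.mem_insert_of_mem _ rfl)⟩
  have hc' : c' ^ p = 1 := Subtype.ext hc
  have hb' : b' ^ p = 1 := Subtype.ext hb
  have h := hC.mk_eq_inv (hC.min.pairs c b) hc' hb' (by rwa [← Subgroup.orderOf_coe])
  obtain ⟨i, hi⟩ := orderOf_eq_pow hc'
  obtain ⟨j, hj⟩ := orderOf_eq_pow (w := b'⁻¹) (by rw [inv_pow, hb', inv_one])
  obtain ⟨g, hg⟩ := isConj_of_mk_eq Constrained.pPrimeCore_not_dvd hi hj h
  exact isConj_iff.2 ⟨g, congrArg Subtype.val hg⟩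

/-- Regular products with a fixed element meet each cyclic subgroup once. -/
theorem pow_eq_self_of_regular [IsMulCommutative (P : Subgroup G)] (hC : Ctx P M) {c w : G}
    (hc : c ^ p = 1) (hw : w ^ p = 1) (i : ℕ) (h1 : ¬ p ∣ orderOf (c * w))
    (h2 : ¬ p ∣ orderOf (c * w ^ i)) : w ^ i = w := by
  let L := Subgroup.closure ({c, w} : Set G)
  let c' : L := ⟨c, Subgroup.subset_closure (Set.mem_insert _ _)⟩
  let w' : L := ⟨w, Subgroup.subset_closure (Set.mem_insert_of_mem _ rfl)⟩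
  have hc' : c' ^ p = 1 := Subtype.ext hc
  have hw' : w' ^ p = 1 := Subtype.ext hw
  have e1 := hC.mk_eq_inv (hC.min.pairs c w) hc' hw' (by rwa [← Subgroup.orderOf_coe])
  have e2 := hC.mk_eq_inv (hC.min.pairs c w) hc' (b := w' ^ i)
    (by rw [← pow_mul, mul_comm, pow_mul, hw', one_pow]) (by rwa [← Subgroup.orderOf_coe])
  have h3 : ((w' ^ i : L) : L ⧸ pPrimeCore p L) = w' := by
    have := e2.symm.trans e1
    simpa only [QuotientGroup.mk_inv, inv_inj] using this
  have hmem : (w' ^ i)⁻¹ * w' ∈ pPrimeCore p L := QuotientGroup.eq.1 h3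
  have hpow : ((w' ^ i)⁻¹ * w') ^ p = 1 := by
    rw [((Commute.refl w').pow_left i).inv_left.mul_pow, inv_pow, ← pow_mul, mul_comm, pow_mul,
      hw', one_pow, inv_one, one_mul]
  obtain ⟨k, hk⟩ := orderOf_eq_pow hpow
  have h4 := eq_one_of_mem_of_pow Constrained.pPrimeCore_not_dvd hk hmem
  exact congrArg Subtype.val (inv_mul_eq_one.1 h4)

omit [IsSimpleGroup G] hp in
theorem sum_eq_zero_of_regular (hC : Ctx P M) {g h : G} (hg : ¬ p ∣ orderOf g)
    (hh : p ∣ orderOf h) : ∑ χ ∈ block G M, (χ : G → ℂ) g * conj ((χ : G → ℂ) h) = 0 := by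
  rw [← sum_mul_inv_eq_zero_of_regular_of_singular hC.modular
    (isIntegralSet_block hC.modular isPBlock_principalBlock) hg hh]
  exact Finset.sum_congr rfl fun χ _ => by rw [Chars.map_inv_eq_conj (Chars.isCharacter_coe χ)]

omit [IsSimpleGroup G] hp in
theorem sum_eq_zero_of_pPart (hC : Ctx P M) {g h v w : G} (hv : IsPPart p g v)
    (hw : IsPPart p h w) (hvw : ¬ IsConj w v) :
    ∑ χ ∈ block G M, (χ : G → ℂ) g * conj ((χ : G → ℂ) h) = 0 := by
  rw [← sum_mul_inv_eq_zero_of_pPart hC.modular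
    (isIntegralSet_block hC.modular isPBlock_principalBlock) hv hw hvw]
  exact Finset.sum_congr rfl fun χ _ => by rw [Chars.map_inv_eq_conj (Chars.isCharacter_coe χ)]

theorem conj_pow_eq_one' (hC : Ctx P M) {a : G} (ha : a ∈ (P : Subgroup G)) (g : G) :
    (g * a * g⁻¹) ^ p = 1 := by rw [conj_pow, hC.exp a ha, mul_one, mul_inv_cancel]

/-- The order of `P` is at least twenty-five. -/
theorem twenty_five_le_card (hC : Ctx P M) : 25 ≤ Nat.card (P : Subgroup G) := by
  obtain ⟨n, hn⟩ := IsPGroup.iff_card.1 P.2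
  have h2 : 2 ≤ n := by
    by_contra hlt
    interval_cases n
    · haveI := hC.nontrivial
      exact absurd hn (Finite.one_lt_card (α := (P : Subgroup G))).ne'
    · exact hC.nc (isCyclic_of_prime_card (p := p) (by rwa [pow_one] at hn))
  rw [hn]
  calc 25 = 5 ^ 2 := rfl
    _ ≤ p ^ 2 := Nat.pow_le_pow_left hC.five 2
    _ ≤ p ^ n := Nat.pow_le_pow_right hp.out.pos h2

/-- The normalizer induces a non-trivial group of automorphisms. -/
theorem two_le_card_autP [IsMulCommutative (P : Subgroup G)] (hC : Ctx P M) :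
    2 ≤ Nat.card (autP P) := by
  by_contra hlt
  have h1 : Nat.card (autP P) = 1 := by
    have := Nat.card_pos (α := autP P)
    omega
  rw [card_autP P, Subgroup.relIndex_eq_one] at h1
  obtain ⟨N, hNn, hNc, k, hk⟩ := Transfer.hasNormalPComplement_iff_exists.1
    (Transfer.hasNormalPComplement_of_normalizer_le_centralizer P h1)
  haveI := hC.nontrivial
  rcases hNn.eq_bot_or_eq_top with hN | hN
  · rw [hN, Subgroup.index_bot] at hk
    haveI := (IsPGroup.of_card hk).isNilpotent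
    exact hC.min.not_solvable inferInstance
  · rw [hN, Subgroup.card_top] at hNc
    refine (hp.out.coprime_iff_not_dvd.1 hNc.symm) ?_
    obtain ⟨n, hn⟩ := IsPGroup.iff_card.1 P.2
    have hn0 : n ≠ 0 := fun h0 => (Finite.one_lt_card (α := (P : Subgroup G))).ne' (by
      rw [hn, h0, pow_zero])
    exact (dvd_pow_self p hn0).trans (hn ▸ Subgroup.card_subgroup_dvd_card _)

end Ctx

end CfsgLib.TwoGenSolv82
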