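import Cfsg.Agent.TwoGenSolv82.Algebra
import Cfsg.Agent.TwoGenSolv82.RealClasses

/-!
When every class of `P` is real and no class occurs in the product of two classes different from it,
there is a single class: with three classes the normalised columns would all vanish, and with two
the cubic sum over the block is too large.

* `Ctx.frob_or_transitive`.
-/

set_option autoImplicit false

namespace CfsgLib.TwoGenSolv82

open Cfsg CfsgLib
open CfsgLib.Blocks CfsgLib.Blocks.AbelianFrobenius CfsgLib.ConjFunctor.CyclicPairs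

universe u

variable {G : Type u} [Group G] [Fintype G] {p : ℕ} [hp : Fact p.Prime] {P : Sylow p G}
  {M : Ideal AlgInt}

/-- All classes of `P` are real, and none occurs in the product of two other classes. -/
structure NoTriple (P : Sylow p G) : Prop where
  real : ∀ a ∈ (P : Subgroup G), a ≠ 1 → IsConj a a⁻¹
  split : ∀ a ∈ (P : Subgroup G), ∀ b ∈ (P : Subgroup G), a ≠ 1 → b ≠ 1 → ¬ IsConj a b →
    ∀ x ∈ (P : Subgroup G), x ≠ 1 → ∀ g z : G, IsPPart p (g * a * g⁻¹ * b) z → IsConj z x →
      IsConj x a ∨ IsConj x b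

theorem nlin_two_classes {x y : ℝ} (hx : 0 < x) (hx' : x ≤ 1 / 25) (hxy : x ≤ y) (hy' : y ≤ 1 / 25) :
    (x + y) ^ 3 + x * (x + y - (x + y) ^ 2) < x ^ 2 / 2 + 2 * x * y + y ^ 2 / 2 := by
  nlinarith [mul_le_mul_of_nonneg_left hy' (sq_nonneg y), mul_le_mul_of_nonneg_left hxy hx.le,
    pow_le_pow_left₀ (add_nonneg hx.le (hx.le.trans hxy)) (show x + y ≤ 2 * y by linarith) 3,
    mul_nonneg hx.le (sq_nonneg (x + y)), pow_pos (hx.trans_le hxy) 2]

namespace Ctx

variable [IsSimpleGroup G] [hab : IsMulCommutative (P : Subgroup G)]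

/-- Two different classes cannot multiply into only one of them. -/
theorem sectionCount_pos (hC : Ctx P M) (hN : NoTriple P) {a b : G}
    (ha : a ∈ (P : Subgroup G)) (hb : b ∈ (P : Subgroup G)) (ha1 : a ≠ 1) (hb1 : b ≠ 1)
    (hne : ¬ IsConj a b) : 0 < sectionCount p a b a := by
  classical
  refine lt_of_le_of_ne (sectionCount_nonneg a b a) fun h0 => ?_
  have hnone : ∀ g z : G, IsPPart p (g * a * g⁻¹ * b) z → ¬ IsConj z a := by
    intro g z hz hza
    rw [eq_comm, sectionCount, div_eq_zero_iff] at h0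
    rcases h0 with h | h
    · rw [Nat.cast_eq_zero, Finset.card_eq_zero, Finset.filter_eq_empty_iff] at h
      exact h (Finset.mem_univ g) ⟨z, hz, hza⟩
    · exact absurd h (by exact_mod_cast Nat.card_pos.ne')
  -- products inside `P` stay in the class of `b`
  have hstep : ∀ v ∈ (P : Subgroup G), IsConj a v → ∀ w ∈ (P : Subgroup G), IsConj w b →
      IsConj (v * w) b := by
    intro v hv hav w hw hwb
    obtain ⟨c, hc⟩ := isConj_iff.1 hwb
    obtain ⟨e, he⟩ := isConj_iff.1 hav
    obtain ⟨k, hk⟩ := orderOf_eq_pow_of_mem P.2 (mul_mem hv hw)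
    have hz : IsPPart p ((c * e) * a * (c * e)⁻¹ * b) (c * (v * w) * c⁻¹) := by
      have := isPPart_conj (isPPart_of_pow hk) c
      rwa [show (c * e) * a * (c * e)⁻¹ * b = c * (v * w) * c⁻¹ by rw [← hc, ← he]; group]
    have hvw : v * w ≠ 1 := fun h => hne (hav.trans (((by
      rw [eq_inv_of_mul_eq_one_left h] : IsConj v w⁻¹)).trans ((hN.real w hw (fun e' => hb1
        (isConj_one_right.1 (e' ▸ hwb)))).symm.trans hwb)))
    refine ((hN.split a ha b hb ha1 hb1 hne _ (mul_mem hv hw) hvw _ _ hz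
      (isConj_iff.2 ⟨c, rfl⟩ : IsConj (v * w) (c * (v * w) * c⁻¹)).symm).resolve_left
        fun h => hnone _ _ hz ((isConj_iff.2 ⟨c, rfl⟩ : IsConj (v * w) _).symm.trans h))
  set Z := Subgroup.closure {v | v ∈ (P : Subgroup G) ∧ IsConj a v} with hZ
  have hle : Z ≤ (P : Subgroup G) := (Subgroup.closure_le _).2 fun v hv => hv.1
  have hinv : ∀ n ∈ Subgroup.normalizer ((P : Subgroup G) : Set G), ∀ z ∈ Z, n * z * n⁻¹ ∈ Z := by
    intro n hn z hz
    have : Z ≤ Z.comap (MulAut.conj n).toMonoidHom := (Subgroup.closure_le _).2 fun v hv =>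
      Subgroup.subset_closure ⟨(Subgroup.mem_normalizer_iff.1 hn v).1 hv.1,
        hv.2.trans (isConj_iff.2 ⟨n, rfl⟩)⟩
    exact this hz
  have hne' : Z ≠ ⊥ := fun h => ha1 (Subgroup.mem_bot.1
    (h ▸ Subgroup.subset_closure ⟨ha, IsConj.refl a⟩))
  have htop := hC.min.eq_sylow_of_invariant hC.five P hle hne' hinv
  have hbi : b⁻¹ ∈ Z := htop.ge (inv_mem hb)
  have hall : ∀ v ∈ Z, ∀ w ∈ (P : Subgroup G), IsConj w b →
      IsConj (v * w) b ∧ IsConj (v⁻¹ * w) b := by
    intro v hv
    induction hv using Subgroup.closure_induction with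
    | mem v hv =>
      exact fun w hw hwb => ⟨hstep v hv.1 hv.2 w hw hwb, hstep v⁻¹ (inv_mem hv.1)
        ((hN.real a ha ha1).trans (isConj_inv_inv hv.2)) w hw hwb⟩
    | one => exact fun w _ hwb => by simpa using hwb
    | mul u v hu hv ihu ihv =>
      intro w hw hwb
      refine ⟨?_, ?_⟩
      · rw [mul_assoc]
        exact (ihu _ (mul_mem (hle hv) hw) (ihv w hw hwb).1).1
      · rw [mul_inv_rev, mul_assoc]
        exact (ihv _ (mul_mem (inv_mem (hle hu)) hw) (ihu w hw hwb).2).2
    | inv u _ ihu => exact fun w hw hwb => by rw [inv_inv]; exact ⟨(ihu w hw hwb).2, (ihu w hw hwb).1⟩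
  have h1 := (hall b⁻¹ hbi b hb (IsConj.refl b)).1
  rw [inv_mul_cancel] at h1
  exact hb1 (isConj_one_right.1 h1)

/-- The product of two classes splits into the same two classes. -/
theorem reVal_mul (hC : Ctx P M) (hN : NoTriple P) {a b : G}
    (ha : a ∈ (P : Subgroup G)) (hb : b ∈ (P : Subgroup G)) (ha1 : a ≠ 1) (hb1 : b ≠ 1)
    (hne : ¬ IsConj a b) :
    sectionCount p a b a + sectionCount p a b b = 1 ∧ ∀ χ ∈ block G M,
      reVal χ a * reVal χ b / degR χ =
        sectionCount p a b a * reVal χ a + sectionCount p a b b * reVal χ b := by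
  classical
  have hG : (Nat.card G : ℝ) ≠ 0 := by exact_mod_cast Nat.card_pos.ne'
  have hGc : (Nat.card G : ℂ) ≠ 0 := by exact_mod_cast Nat.card_pos.ne'
  have hab' : ¬ IsConj a b⁻¹ := fun h => hne (h.trans (hN.real b hb hb1).symm)
  set h : G → G := fun g => g * a * g⁻¹ * b with hh
  set Sa := Finset.univ.filter fun g : G => ∃ z, IsPPart p (h g) z ∧ IsConj z a with hSa
  set Sb := Finset.univ.filter fun g : G => ∃ z, IsPPart p (h g) z ∧ IsConj z b with hSb
  have hclass : ∀ g : G, g ∈ Sa ∨ g ∈ Sb := by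
    intro g
    have hs : p ∣ orderOf (h g) := by
      by_contra hreg
      exact hab' ((isConj_iff.2 ⟨g, rfl⟩ : IsConj a (g * a * g⁻¹)).trans
        (hC.isConj_of_regular (hC.conj_pow_eq_one' ha g) (hC.exp b hb) hreg))
    obtain ⟨v, z, hv, hvz, hz, hz1, -⟩ :=
      hC.exists_mem_of_singular (hC.conj_pow_eq_one' ha g) (hC.exp b hb) hs
    rcases hN.split a ha b hb ha1 hb1 hne z hz hz1 g v hv hvz with e | e
    · exact Or.inl (Finset.mem_filter.2 ⟨Finset.mem_univ _, v, hv, hvz.trans e⟩)
    · exact Or.inr (Finset.mem_filter.2 ⟨Finset.mem_univ _, v, hv, hvz.trans e⟩)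
  have hdisj : Disjoint Sa Sb := by
    rw [Finset.disjoint_left]
    intro g hga hgb
    obtain ⟨z, hz, hza⟩ := (Finset.mem_filter.1 hga).2
    obtain ⟨z', hz', hzb⟩ := (Finset.mem_filter.1 hgb).2
    exact hne (hza.symm.trans (isPPart_unique hp.out hz hz' ▸ hzb))
  have hun : Sa ∪ Sb = Finset.univ := Finset.eq_univ_iff_forall.2 fun g =>
    Finset.mem_union.2 (hclass g)
  refine ⟨?_, fun χ hχ => ?_⟩
  · rw [sectionCount, sectionCount, ← add_div, div_eq_one_iff_eq hG, ← Nat.cast_add,
      ← Finset.card_union_of_disjoint hdisj, hun, Finset.card_univ, Nat.card_eq_fintype_card]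
  · apply Complex.ofReal_injective
    have hval : ∀ (g : G) (c : G), c ≠ 1 → (∃ z, IsPPart p (h g) z ∧ IsConj z c) →
        (χ : G → ℂ) (h g) = (χ : G → ℂ) c := by
      rintro g c hc1 ⟨z, hz, hzc⟩
      have hz1 : z ≠ 1 := fun e => hc1 (isConj_one_right.1 (e ▸ hzc))
      rw [hC.pure _ b z (hC.conj_pow_eq_one' ha g) (hC.exp b hb) hz hz1 χ hχ]
      obtain ⟨w, rfl⟩ := isConj_iff.1 hzc
      rw [Chars.isClassFunction_coe χ z w]
    have hsum : ∑ g : G, (χ : G → ℂ) (h g) =
        (Sa.card : ℂ) * (χ : G → ℂ) a + (Sb.card : ℂ) * (χ : G → ℂ) b := by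
      rw [← hun, Finset.sum_union hdisj,
        Finset.sum_congr rfl fun g hg => hval g a ha1 (Finset.mem_filter.1 hg).2,
        Finset.sum_congr rfl (s₁ := Sb) fun g hg => hval g b hb1 (Finset.mem_filter.1 hg).2,
        Finset.sum_const, Finset.sum_const, nsmul_eq_mul, nsmul_eq_mul]
    rw [hh, sum_irrCharacter_conj_mul χ b a] at hsum
    rw [sectionCount, sectionCount, ← hSa, ← hSb]
    push_cast
    rw [coe_degR, coe_reVal (hN.real a ha ha1), coe_reVal (hN.real b hb hb1)]
    have hd := irrCharacter_one_ne_zero χ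
    field_simp at hsum ⊢
    linear_combination hsum

/-- Among the products of a class with itself at least half are singular. -/
theorem half_le_sectionCount (hC : Ctx P M) (hN : NoTriple P) {a b : G}
    (ha : a ∈ (P : Subgroup G)) (ha1 : a ≠ 1)
    (htwo : ∀ x ∈ (P : Subgroup G), x ≠ 1 → IsConj x a ∨ IsConj x b) :
    1 / 2 ≤ sectionCount p a a a + sectionCount p a a b := by
  classical
  obtain ⟨m, hm⟩ := isConj_iff.1 (hN.real a ha ha1)
  set R := Finset.univ.filter fun g : G => ¬ p ∣ orderOf (g * a * g⁻¹ * a) with hR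
  set R' := Finset.univ.filter fun g : G => ¬ p ∣ orderOf (g * a * g⁻¹ * a⁻¹) with hR'
  have hcard : R.card ≤ R'.card := by
    refine Finset.card_le_card_of_injOn (fun g => m * g) (fun g hg => ?_)
      (fun x _ y _ e => mul_left_cancel e)
    rw [hR', Finset.coe_filter, Set.mem_setOf_eq]
    refine ⟨Finset.mem_univ _, fun hd => (Finset.mem_filter.1 hg).2 ?_⟩
    rw [show m * g * a * (m * g)⁻¹ * a⁻¹ = m * (g * a * g⁻¹ * a) * m⁻¹ by rw [← hm]; group] at hd
    rwa [show orderOf (m * (g * a * g⁻¹ * a) * m⁻¹) = orderOf (g * a * g⁻¹ * a) from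
      MulEquiv.orderOf_eq (MulAut.conj m) _] at hd
  have hdisj : Disjoint R R' := by
    rw [Finset.disjoint_left]
    intro g hg hg'
    have h := hC.pow_eq_self_of_regular (hC.conj_pow_eq_one' ha g) (hC.exp a ha) (p - 1)
      (Finset.mem_filter.1 hg).2 (by
        rw [show a ^ (p - 1) = a⁻¹ from eq_inv_of_mul_eq_one_left (by
          rw [← pow_succ, Nat.sub_add_cancel hp.out.one_le, hC.exp a ha])]
        exact (Finset.mem_filter.1 hg').2)
    have h2 : a ^ 2 = 1 := by
      have h3 := congrArg (· * a) h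
      simp only [← pow_succ, Nat.sub_add_cancel hp.out.one_le, hC.exp a ha] at h3
      rw [pow_two, ← h3]
    refine ha1 (orderOf_eq_one_iff.1 (Nat.eq_one_of_dvd_coprimes (a := 2) (b := p) ?_
      (orderOf_dvd_of_pow_eq_one h2) (orderOf_dvd_of_pow_eq_one (hC.exp a ha))))
    exact ((Nat.coprime_primes Nat.prime_two hp.out).2 (by have := hC.five; omega))
  have h2R : 2 * R.card ≤ Nat.card G := by
    have := Finset.card_le_univ (R ∪ R')
    rw [Finset.card_union_of_disjoint hdisj] at this
    rw [Nat.card_eq_fintype_card]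
    omega
  set Sa := Finset.univ.filter fun g : G => ∃ z, IsPPart p (g * a * g⁻¹ * a) z ∧ IsConj z a
  set Sb := Finset.univ.filter fun g : G => ∃ z, IsPPart p (g * a * g⁻¹ * a) z ∧ IsConj z b
  have hcov : Finset.univ ⊆ R ∪ Sa ∪ Sb := by
    intro g _
    by_cases hs : p ∣ orderOf (g * a * g⁻¹ * a)
    · obtain ⟨v, z, hv, hvz, hz, hz1, -⟩ :=
        hC.exists_mem_of_singular (hC.conj_pow_eq_one' ha g) (hC.exp a ha) hs
      rcases htwo z hz hz1 with e | e
      · exact Finset.mem_union_left _ (Finset.mem_union_right _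
          (Finset.mem_filter.2 ⟨Finset.mem_univ _, v, hv, hvz.trans e⟩))
      · exact Finset.mem_union_right _
          (Finset.mem_filter.2 ⟨Finset.mem_univ _, v, hv, hvz.trans e⟩)
    · exact Finset.mem_union_left _ (Finset.mem_union_left _
        (Finset.mem_filter.2 ⟨Finset.mem_univ _, hs⟩))
  have h3 := (Finset.card_le_card hcov).trans ((Finset.card_union_le _ _).trans
    (Nat.add_le_add_right (Finset.card_union_le _ _) _))
  rw [Finset.card_univ, ← Nat.card_eq_fintype_card] at h3
  have h4 : Nat.card G ≤ 2 * Sa.card + 2 * Sb.card := by omega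
  rw [sectionCount, sectionCount, ← add_div, div_le_div_iff₀ two_pos (by exact_mod_cast Nat.card_pos),
    one_mul]
  calc (Nat.card G : ℝ) ≤ ((2 * Sa.card + 2 * Sb.card : ℕ) : ℝ) := by exact_mod_cast h4
    _ = ((Sa.card : ℝ) + Sb.card) * 2 := by push_cast; ring

/-- Not two real classes. -/
theorem not_two_classes (hC : Ctx P M) (hN : NoTriple P) {a b : G}
    (ha : a ∈ (P : Subgroup G)) (hb : b ∈ (P : Subgroup G)) (ha1 : a ≠ 1) (hb1 : b ≠ 1)
    (hne : ¬ IsConj a b) (htwo : ∀ x ∈ (P : Subgroup G), x ≠ 1 → IsConj x a ∨ IsConj x b) :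
    False := by
  classical
  have hne' : ¬ IsConj b a := fun h => hne h.symm
  have hra := hN.real a ha ha1
  have hrb := hN.real b hb hb1
  obtain ⟨hsum, hmul⟩ := hC.reVal_mul hN ha hb ha1 hb1 hne
  set α := sectionCount p a b a with hα
  set β := sectionCount p a b b with hβ
  have hα0 : 0 < α := hC.sectionCount_pos hN ha hb ha1 hb1 hne
  have hβ0 : 0 < β := by
    have h := hC.sectionCount_pos hN hb ha hb1 ha1 hne'
    -- symmetry of the cubic sums
    have e1 := hC.sum_triple ha hb hb hb1 hra hrb hrb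
    have e2 := hC.sum_triple hb ha hb hb1 hrb hra hrb
    have e3 : sectionCount p a b b * colNorm M b = sectionCount p b a b * colNorm M b := by
      rw [← e1, ← e2]; exact Finset.sum_congr rfl fun χ _ => by ring
    rw [hβ, mul_right_cancel₀ (by linarith [hC.twenty_five_le_colNorm hb hb1 hrb]) e3]
    exact h
  set Da := colNorm M a with hDa
  set Db := colNorm M b with hDb
  have hDa25 : 25 ≤ Da := hC.twenty_five_le_colNorm ha ha1 hra
  have hDb25 : 25 ≤ Db := hC.twenty_five_le_colNorm hb hb1 hrb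
  have haab : ∑ χ ∈ block G M, reVal χ a * reVal χ a * reVal χ b / degR χ = α * Da := by
    rw [hα, hDa, ← hC.sum_triple ha hb ha ha1 hra hrb hra]
    exact Finset.sum_congr rfl fun χ _ => by ring
  have habb : ∑ χ ∈ block G M, reVal χ a * reVal χ b * reVal χ b / degR χ = β * Db :=
    hC.sum_triple ha hb hb hb1 hra hrb hrb
  have haab' := hC.sum_triple ha ha hb hb1 hra hra hrb
  rw [haab, ← hDb] at haab'
  have hbba' : β * Db = sectionCount p b b a * Da := by
    rw [← habb, hDa, ← hC.sum_triple hb hb ha ha1 hrb hrb hra]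
    exact Finset.sum_congr rfl fun χ _ => by ring
  have hαD : α * Da ≤ Db := by
    rw [haab']; exact mul_le_of_le_one_left (by linarith) (sectionCount_le_one _ _ _)
  have hβD : β * Db ≤ Da := by
    rw [hbba']; exact mul_le_of_le_one_left (by linarith) (sectionCount_le_one _ _ _)
  set x := 1 / Da with hx
  set y := 1 / Db with hy
  set A : IrrCharacter G → ℝ := fun χ => reVal χ a * x + reVal χ b * y with hA
  have hlow : x ^ 2 / 2 + 2 * x * y + y ^ 2 / 2 ≤ ∑ χ ∈ block G M, A χ ^ 3 / degR χ := by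
    have haaa := hC.sum_triple ha ha ha ha1 hra hra hra
    have hbbb := hC.sum_triple hb hb hb hb1 hrb hrb hrb
    have hexp : ∑ χ ∈ block G M, A χ ^ 3 / degR χ =
        x ^ 3 * (sectionCount p a a a * Da) + 2 * x ^ 2 * y * (α * Da) +
          x ^ 2 * y * (sectionCount p a a b * Db) + 2 * x * y ^ 2 * (β * Db) +
          x * y ^ 2 * (sectionCount p b b a * Da) + y ^ 3 * (sectionCount p b b b * Db) := by
      rw [← haab', ← hbba', ← haaa, ← hbbb, ← haab, ← habb]
      simp only [Finset.mul_sum, ← Finset.sum_add_distrib, hA]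
      exact Finset.sum_congr rfl fun χ _ => by ring
    have h1 := hC.half_le_sectionCount hN ha ha1 htwo
    have h2 := hC.half_le_sectionCount hN hb hb1 fun z hz hz1 => (htwo z hz hz1).symm
    have hxD : x * Da = 1 := div_mul_cancel₀ _ (by linarith)
    have hyD : y * Db = 1 := div_mul_cancel₀ _ (by linarith)
    rw [hexp]
    calc x ^ 2 / 2 + 2 * x * y + y ^ 2 / 2
        ≤ x ^ 2 * (sectionCount p a a a + sectionCount p a a b) + 2 * x * y * (α + β) +
          y ^ 2 * (sectionCount p b b b + sectionCount p b b a) := by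
          rw [hsum]; nlinarith [sq_nonneg x, sq_nonneg y]
      _ = _ := by
          linear_combination
            (-x ^ 2 * sectionCount p a a a - 2 * x * y * α - y ^ 2 * sectionCount p b b a) * hxD +
            (-x ^ 2 * sectionCount p a a b - 2 * x * y * β - y ^ 2 * sectionCount p b b b) * hyD
  have hsq : ∑ χ ∈ block G M, A χ ^ 2 = x + y := by
    have h0 := hC.sum_mul_eq_zero ha hb hra hrb hne'
    calc ∑ χ ∈ block G M, A χ ^ 2
        = x ^ 2 * Da + 2 * x * y * ∑ χ ∈ block G M, reVal χ a * reVal χ b + y ^ 2 * Db := by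
          simp only [hDa, hDb, colNorm, Finset.mul_sum, ← Finset.sum_add_distrib, hA]
          exact Finset.sum_congr rfl fun χ _ => by ring
      _ = _ := by rw [h0, hx, hy]; field_simp; ring
  set τ := Min.min x y with hτ
  have hτ0 : 0 ≤ τ := le_min (by positivity) (by positivity)
  have hbound : ∀ χ ∈ (block G M).erase (Chars.oneChar G),
      A χ ^ 3 / degR χ ≤ τ * A χ ^ 2 := by
    intro χ hχ
    obtain ⟨hχ1, hχB⟩ := Finset.mem_erase.1 hχ
    have hd := degR_pos χ
    set s := reVal χ a / degR χ with hs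
    set t := reVal χ b / degR χ with ht
    have hlt : ∀ g : G, g ≠ 1 → IsConj g g⁻¹ → reVal χ g / degR χ < 1 := by
      intro g hg hr
      rw [div_lt_one hd]
      refine lt_of_le_of_ne ((le_abs_self _).trans (abs_reVal_le χ g)) fun e => apply_ne_map_one hχ1 hg ?_
      rw [← coe_reVal hr, e, coe_degR]
    have hs1 := hlt a ha1 hra
    have ht1 := hlt b hb1 hrb
    have hst : s * t = α * s + β * t := by
      have := hmul χ hχB
      rw [hs, ht]
      field_simp at this ⊢
      linear_combination this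
    have hsβ : (s ≤ 0 ∧ t ≤ α) ∨ (t ≤ 0 ∧ s ≤ β) := by
      have hprod : (s - β) * (t - α) = α * β := by linear_combination hst
      have hb' : s < β := by
        by_contra hge
        push Not at hge
        rcases eq_or_lt_of_le hge with e | e
        · rw [← e, sub_self, zero_mul] at hprod; nlinarith
        · have : α < t := by nlinarith
          nlinarith
      have ha' : t < α := by nlinarith
      by_contra hcon
      push Not at hcon
      have hs0 : 0 < s := by
        by_contra h; push Not at h; linarith [hcon.1 h]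
      have ht0 : 0 < t := by
        by_contra h; push Not at h; linarith [hcon.2 h]
      nlinarith
    have hA' : A χ / degR χ ≤ τ := by
      rw [show A χ / degR χ = s * x + t * y by rw [hA, hs, ht]; ring]
      have hx0 : 0 ≤ x := by positivity
      have hy0 : 0 ≤ y := by positivity
      have hα1 : α ≤ 1 := by linarith
      have hβ1 : β ≤ 1 := by linarith
      have hαy : α * y ≤ x := by
        rw [hx, hy, mul_one_div, div_le_div_iff₀ (by linarith) (by linarith)]; linarith
      have hβx : β * x ≤ y := by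
        rw [hx, hy, mul_one_div, div_le_div_iff₀ (by linarith) (by linarith)]; linarith
      rcases hsβ with ⟨h1, h2⟩ | ⟨h1, h2⟩ <;> refine le_min ?_ ?_ <;> nlinarith
    calc A χ ^ 3 / degR χ = A χ / degR χ * A χ ^ 2 := by ring
      _ ≤ _ := mul_le_mul_of_nonneg_right hA' (sq_nonneg _)
  have hone : A (Chars.oneChar G) = x + y := by simp [hA, reVal_one]
  have hB := oneChar_mem (G := G) hC.modular
  have hup : ∑ χ ∈ block G M, A χ ^ 3 / degR χ ≤ (x + y) ^ 3 + τ * (x + y - (x + y) ^ 2) := by
    have hsq' := hsq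
    rw [← Finset.add_sum_erase _ _ hB, hone] at hsq'
    rw [← Finset.add_sum_erase _ _ hB, hone, degR_one, div_one]
    refine add_le_add le_rfl ((Finset.sum_le_sum hbound).trans (le_of_eq ?_))
    rw [← Finset.mul_sum]; linear_combination τ * hsq'
  have hx0 : 0 < x := by positivity
  have hy0 : 0 < y := by positivity
  have hx' : x ≤ 1 / 25 := div_le_div_of_nonneg_left zero_le_one (by norm_num) hDa25
  have hy' : y ≤ 1 / 25 := div_le_div_of_nonneg_left zero_le_one (by norm_num) hDb25
  rcases le_total x y with h | h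
  · rw [hτ, min_eq_left h] at hup
    linarith [nlin_two_classes hx0 hx' h hy']
  · rw [hτ, min_eq_right h] at hup
    have := nlin_two_classes hy0 hy' h hx'
    rw [add_comm y x] at this
    linarith

/-- Not three real classes. -/
theorem not_three_classes (hC : Ctx P M) (hN : NoTriple P) {a b c : G}
    (ha : a ∈ (P : Subgroup G)) (hb : b ∈ (P : Subgroup G)) (hc : c ∈ (P : Subgroup G))
    (ha1 : a ≠ 1) (hb1 : b ≠ 1) (hc1 : c ≠ 1)
    (hab' : ¬ IsConj a b) (hbc : ¬ IsConj b c) (hca : ¬ IsConj c a) : False := by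
  classical
  obtain ⟨s1, m1⟩ := hC.reVal_mul hN ha hb ha1 hb1 hab'
  obtain ⟨s2, m2⟩ := hC.reVal_mul hN hb hc hb1 hc1 hbc
  obtain ⟨s3, m3⟩ := hC.reVal_mul hN hc ha hc1 ha1 hca
  have key : ∀ {a b : G}, a ∈ (P : Subgroup G) → b ∈ (P : Subgroup G) → a ≠ 1 → b ≠ 1 →
      ¬ IsConj a b → 0 < sectionCount p a b b := by
    intro a b ha hb ha1 hb1 hne
    have h := hC.sectionCount_pos hN hb ha hb1 ha1 fun e => hne e.symm
    have e1 := hC.sum_triple ha hb hb hb1 (hN.real a ha ha1) (hN.real b hb hb1) (hN.real b hb hb1)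
    have e2 := hC.sum_triple hb ha hb hb1 (hN.real b hb hb1) (hN.real a ha ha1) (hN.real b hb hb1)
    have e3 : sectionCount p a b b * colNorm M b = sectionCount p b a b * colNorm M b := by
      rw [← e1, ← e2]; exact Finset.sum_congr rfl fun χ _ => by ring
    rwa [mul_right_cancel₀
      (by linarith [hC.twenty_five_le_colNorm hb hb1 (hN.real b hb hb1)]) e3]
  have p1 := hC.sectionCount_pos hN ha hb ha1 hb1 hab'
  have p2 := hC.sectionCount_pos hN hb hc hb1 hc1 hbc
  have p3 := hC.sectionCount_pos hN hc ha hc1 ha1 hca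
  have q1 := key ha hb ha1 hb1 hab'
  have q2 := key hb hc hb1 hc1 hbc
  have q3 := key hc ha hc1 ha1 hca
  set α1 := sectionCount p a b a
  set β1 := sectionCount p a b b
  set α2 := sectionCount p b c b
  set β2 := sectionCount p b c c
  set α3 := sectionCount p c a c
  set β3 := sectionCount p c a a
  have hvan : ∀ χ ∈ (block G M).erase (Chars.oneChar G), reVal χ a = 0 := by
    intro χ hχ
    obtain ⟨hχ1, hχB⟩ := Finset.mem_erase.1 hχ
    have hd := degR_pos χ
    have e1 := m1 χ hχB
    have e2 := m2 χ hχB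
    have e3 := m3 χ hχB
    field_simp at e1 e2 e3
    set u := reVal χ a
    set v := reVal χ b
    set w := reVal χ c
    by_contra hu
    have hv : v ≠ 0 := fun hv => by
      rw [hv] at e1
      have : α1 * u * degR χ = 0 := by linear_combination -e1
      simp [hu, p1.ne', hd.ne'] at this
    have hw : w ≠ 0 := fun hw => by
      rw [hw] at e3
      have : β3 * u * degR χ = 0 := by linear_combination -e3
      simp [hu, q3.ne', hd.ne'] at this
    set A := degR χ / u - 1 with hA
    set B := degR χ / v - 1 with hB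
    set C := degR χ / w - 1 with hCdef
    have f1 : α1 * B + β1 * A = 0 := by
      rw [hA, hB]; field_simp; linear_combination -e1 - u * v * s1
    have f2 : α2 * C + β2 * B = 0 := by
      rw [hB, hCdef]; field_simp; linear_combination -e2 - v * w * s2
    have f3 : α3 * A + β3 * C = 0 := by
      rw [hA, hCdef]; field_simp; linear_combination -e3 - w * u * s3
    have hA0 : A * (α1 * α2 * α3 + β1 * β2 * β3) = 0 := by
      linear_combination (α1 * α2) * f3 - α1 * β3 * f2 + β2 * β3 * f1
    have hAz : A = 0 := (mul_eq_zero.1 hA0).resolve_right (by positivity)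
    refine apply_ne_map_one hχ1 ha1 ?_
    rw [← coe_reVal (hN.real a ha ha1), ← coe_degR]
    rw [hA, sub_eq_zero, div_eq_one_iff_eq hu] at hAz
    exact_mod_cast hAz.symm
  have h := hC.sum_deg_mul_eq_zero ha ha1 (hN.real a ha ha1)
  rw [← Finset.add_sum_erase _ _ (oneChar_mem (G := G) hC.modular), degR_one, reVal_one,
    Finset.sum_eq_zero fun χ hχ => by rw [hvan χ hχ, mul_zero]] at h
  norm_num at h

/-- Either the normalizer acts freely on `P`, or transitively. -/
theorem frob_or_transitive (hC : Ctx P M) : Frob P ∨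
    ∀ x ∈ (P : Subgroup G), ∀ y ∈ (P : Subgroup G), x ≠ 1 → y ≠ 1 → IsConj x y := by
  refine or_iff_not_imp_left.2 fun hF => ?_
  have hreal : ∀ a ∈ (P : Subgroup G), a ≠ 1 → IsConj a a⁻¹ := fun a ha ha1 => by
    by_contra h
    exact hF (hC.frob_of_multiplier ha ha1 fun F hFm =>
      hC.mul_mem_prodSpan ha ha1 (fun e => absurd e h) hFm)
  have hN : NoTriple P := ⟨hreal, fun a ha b hb ha1 hb1 hne x hx hx1 g z hz hzx => by
    by_contra hcon
    push Not at hcon
    exact hF (hC.frob_of_multiplier hx hx1 fun F hFm => hC.mul_mem_prodSpan hx hx1 (fun _ =>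
      ⟨a, ha, b, hb, fun e => hne (e.trans (hreal b hb hb1).symm), fun e => hcon.1 e.symm,
        fun e => hcon.2 e.symm, g, z, hz, hzx⟩) hFm)⟩
  intro x hx y hy hx1 hy1
  by_contra hne
  by_cases h3 : ∃ c ∈ (P : Subgroup G), c ≠ 1 ∧ ¬ IsConj c x ∧ ¬ IsConj c y
  · obtain ⟨c, hc, hc1, hcx, hcy⟩ := h3
    exact hC.not_three_classes hN hx hy hc hx1 hy1 hc1 hne (fun e => hcy e.symm) hcx
  · push Not at h3
    exact hC.not_two_classes hN hx hy hx1 hy1 hne fun z hz hz1 => or_iff_not_imp_left.2 (h3 z hz hz1)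

end Ctx

end CfsgLib.TwoGenSolv82
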