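import Cfsg.Agent.TwoGenSolv82.Closed
import Cfsg.Agent.S0118
import Cfsg.Agent.GlaubermanZJ.Centers
import Cfsg.Agent.GlaubermanZJ.PStable
import Cfsg.Agent.Classical.Linear.Generation
import Cfsg.Agent.PGroup.Omega

/-!
For `p ≥ 5` a strongly closed abelian subgroup of a Sylow subgroup gives `ClosedData`, so by the
ZJ theorem the Sylow `p`-subgroups of a minimal counterexample are elementary abelian, and their
normalizers act irreducibly on them.

* `closedData_of_abelian`;
* `TwoGenMin.elementary_sylow`, `TwoGenMin.eq_sylow_of_invariant`.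
-/

set_option autoImplicit false

namespace CfsgLib.TwoGenSolv82

open Cfsg CfsgLib
open scoped commutatorElement

universe u

theorem not_isSolvable_slTwo {p : ℕ} [Fact p.Prime] (hp : 5 ≤ p) :
    ¬ Group.IsSolvable (Matrix.SpecialLinearGroup (Fin 2) (ZMod p)) := by
  haveI : Group.IsPerfect (Matrix.SpecialLinearGroup (Fin 2) (ZMod p)) :=
    ⟨Classical.Linear.commutator_sl_fin_eq_top 2 fun _ =>
      Classical.Linear.exists_sq_ne_one_of_four_le (by rw [Nat.card_zmod]; omega)⟩
  haveI : Nontrivial (Matrix.SpecialLinearGroup (Fin 2) (ZMod p)) := by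
    refine ⟨⟨1, ⟨!![1, 1; 0, 1], by simp [Matrix.det_fin_two]⟩, fun h => ?_⟩⟩
    have := congrArg (fun x : Matrix.SpecialLinearGroup (Fin 2) (ZMod p) =>
      (x : Matrix (Fin 2) (Fin 2) (ZMod p)) 0 1) h
    simp at this
  exact Group.IsPerfect.not_isSolvable _

variable {G : Type u} [Group G] [Finite G] {p : ℕ} [hp : Fact p.Prime]

/-- An abelian strongly closed subgroup of a Sylow subgroup lies in `O_{p',p}` of every solvable
subgroup containing it, up to conjugacy. -/
theorem closedData_of_abelian (hp5 : 5 ≤ p) {S : Sylow p G} {Z : Subgroup G}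
    (hle : Z ≤ (S : Subgroup G)) (hab : ∀ x ∈ Z, ∀ y ∈ Z, x * y = y * x)
    (hst : ∀ z ∈ Z, ∀ g : G, g * z * g⁻¹ ∈ (S : Subgroup G) → g * z * g⁻¹ ∈ Z) :
    ClosedData S Z := by
  refine ⟨hle, hst, fun H hH c hc => ?_⟩
  obtain ⟨k, hk⟩ : ∃ k, orderOf c = p ^ k := by
    obtain ⟨g, hg⟩ := hc
    obtain ⟨k, hk⟩ := orderOf_eq_pow_of_mem S.2 (hle hg)
    refine ⟨k, ?_⟩
    rw [← Subgroup.orderOf_coe, ← hk,
      ← orderOf_injective (MulAut.conj g).toMonoidHom (MulAut.conj g).injective (c : G)]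
    rfl
  obtain ⟨R, hR⟩ := (isPGroup_zpowers hk).exists_le_sylow
  have hcR : c ∈ (R : Subgroup H) := hR (Subgroup.mem_zpowers c)
  obtain ⟨Q, hQ⟩ := ((R.2).map H.subtype).exists_le_sylow
  obtain ⟨h, hh⟩ := MulAction.exists_smul_eq G Q S
  have hRS : ∀ r ∈ (R : Subgroup H), h * (r : G) * h⁻¹ ∈ (S : Subgroup G) := by
    intro r hr
    rw [← hh, Sylow.smul_def]
    exact ⟨(r : G), hQ ⟨r, hr, rfl⟩, rfl⟩
  set A : Subgroup H := (R : Subgroup H) ⊓
    Z.comap ((MulAut.conj h).toMonoidHom.comp H.subtype) with hA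
  have hcA : c ∈ A := by
    refine ⟨hcR, ?_⟩
    obtain ⟨a, ha⟩ := hc
    have h1 := hst _ ha (h * a⁻¹) (by
      rw [show h * a⁻¹ * (a * (c : G) * a⁻¹) * (h * a⁻¹)⁻¹ = h * (c : G) * h⁻¹ by group]
      exact hRS c hcR)
    rwa [show h * a⁻¹ * (a * (c : G) * a⁻¹) * (h * a⁻¹)⁻¹ = h * (c : G) * h⁻¹ by group] at h1
  have hAab : ∀ x ∈ A, ∀ y ∈ A, x * y = y * x := by
    intro x hx y hy
    have h1 := hab _ hx.2 _ hy.2
    rw [← map_mul, ← map_mul] at h1
    exact Subtype.ext ((MulAut.conj h).injective h1)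
  have hAn : ∀ r ∈ (R : Subgroup H), ∀ a ∈ A, r * a * r⁻¹ ∈ A := by
    intro r hr a ha
    have hra := mul_mem (mul_mem hr ha.1) (inv_mem hr)
    refine ⟨hra, ?_⟩
    have h1 := hst _ ha.2 (h * (r : G) * h⁻¹) (by
      simpa [mul_assoc] using hRS _ hra)
    simpa [mul_assoc] using h1
  -- the image acts quadratically on the core of the quotient
  set N := pPrimeCore p H with hN
  set π := QuotientGroup.mk' N with hπ
  haveI := hH
  have hsol : IsPSolvable p (H ⧸ N) := Constrained.IsPSolvable.quotient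
    Constrained.isPSolvable_of_isSolvable N
  set V := pCore p (H ⧸ N) with hV
  have hVR : V ≤ (R : Subgroup H).map π := Constrained.isPGroup_pCore.le_sylow_of_normal
    (R.mapSurjective (f := π) (QuotientGroup.mk'_surjective N))
  have h1 : ⁅V, Subgroup.zpowers (π c)⁆ ≤ A.map π := by
    refine Subgroup.commutator_le.2 fun v hv z hz => ?_
    obtain ⟨r, hr, rfl⟩ := hVR hv
    obtain ⟨n, rfl⟩ := Subgroup.mem_zpowers_iff.1 hz
    refine ⟨⁅r, c ^ n⁆, ?_, by rw [map_commutatorElement, map_zpow]⟩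
    rw [commutatorElement_def]
    exact mul_mem (hAn r hr _ (zpow_mem hcA n)) (inv_mem (zpow_mem hcA n))
  have h2 : ⁅⁅V, Subgroup.zpowers (π c)⁆, Subgroup.zpowers (π c)⁆ = ⊥ := by
    refine eq_bot_iff.2 (Subgroup.commutator_le.2 fun v hv z hz => ?_)
    obtain ⟨a, ha, rfl⟩ := h1 hv
    obtain ⟨n, rfl⟩ := Subgroup.mem_zpowers_iff.1 hz
    rw [Subgroup.mem_bot, commutatorElement_eq_one_iff_mul_comm, ← map_zpow, ← map_mul, ← map_mul,
      hAab a ha _ (zpow_mem hcA n)]
  have hst' := GlaubermanZJ.isPStableOn_of_isPSolvable_five_le hp5 hsol V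
    Constrained.isPGroup_pCore (π c) h2
  set C := Subgroup.centralizer (V : Set (H ⧸ N)) with hC
  have hCV : C ≤ V := Constrained.centralizer_pCore_quotient_le Constrained.isPSolvable_of_isSolvable
  set D := (pCore p ((H ⧸ N) ⧸ C)).comap (QuotientGroup.mk' C) with hD
  have hDp : IsPGroup p D := by
    refine (Constrained.isPGroup_pCore (p := p) (G := (H ⧸ N) ⧸ C)).comap_of_ker_isPGroup _ ?_
    rw [QuotientGroup.ker_mk']
    exact Constrained.isPGroup_pCore.to_le hCV
  exact Constrained.le_pCore (Subgroup.Normal.comap inferInstance _) hDp hst'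

theorem TwoGenMin.solvable_of_ne_top (h : TwoGenMin G) {H : Subgroup G} (hH : H ≠ ⊤) :
    Group.IsSolvable H := h.proper H hH

/-- A simple minimal counterexample has no section `SL(2, p)`. -/
theorem TwoGenMin.sl_two_free [IsSimpleGroup G] (h : TwoGenMin G) (hp5 : 5 ≤ p) :
    ¬ ∃ (H K : Subgroup G) (_hK : (K.subgroupOf H).Normal),
      Nonempty ((H ⧸ K.subgroupOf H) ≃* Matrix.SpecialLinearGroup (Fin 2) (ZMod p)) := by
  rintro ⟨H, K, hK, ⟨e⟩⟩
  by_cases hH : H = ⊤
  · subst hH
    haveI : IsSimpleGroup (⊤ : Subgroup G) := Subgroup.topEquiv.isSimpleGroup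
    rcases hK.eq_bot_or_eq_top with hb | hb
    · let f : (⊤ : Subgroup G) →* Matrix.SpecialLinearGroup (Fin 2) (ZMod p) :=
        e.toMonoidHom.comp (QuotientGroup.mk' (K.subgroupOf ⊤))
      have hf : Function.Injective f :=
        e.injective.comp ((MonoidHom.ker_eq_bot_iff _).1 ((QuotientGroup.ker_mk' _).trans hb))
      have hf' : Function.Surjective f := e.surjective.comp (QuotientGroup.mk'_surjective _)
      obtain ⟨x, hx⟩ := hf' (-1)
      have hxc : x ∈ Subgroup.center (⊤ : Subgroup G) := Subgroup.mem_center_iff.2 fun y =>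
        hf (by rw [map_mul, map_mul, hx, mul_neg, neg_mul, mul_one, one_mul])
      have hne : Subgroup.center (⊤ : Subgroup G) ≠ ⊥ := fun hb' => by
        rw [hb', Subgroup.mem_bot] at hxc
        rw [hxc, map_one] at hx
        have h2 := congrArg (fun y : Matrix.SpecialLinearGroup (Fin 2) (ZMod p) =>
          (y : Matrix (Fin 2) (Fin 2) (ZMod p)) 0 0) hx
        simp at h2
        have h3 : ((2 : ℕ) : ZMod p) = 0 := by push_cast; linear_combination h2
        have := Nat.le_of_dvd (by omega) ((ZMod.natCast_eq_zero_iff _ _).1 h3)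
        omega
      have htop := (Subgroup.center (⊤ : Subgroup G)).normal_of_characteristic
      have htop' := htop.eq_bot_or_eq_top.resolve_left hne
      refine h.not_solvable (Group.isSolvable_of_comm fun a b => ?_)
      have := Subgroup.mem_center_iff.1 (show (⟨b, trivial⟩ : (⊤ : Subgroup G)) ∈
        Subgroup.center (⊤ : Subgroup G) from htop' ▸ Subgroup.mem_top _) ⟨a, trivial⟩
      exact congrArg Subtype.val this
    · haveI : Subsingleton ((⊤ : Subgroup G) ⧸ K.subgroupOf ⊤) :=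
        QuotientGroup.subsingleton_iff.2 hb
      exact not_isSolvable_slTwo hp5 (Group.isSolvable_of_surjective (f := e.toMonoidHom) e.surjective)
  · haveI := h.proper H hH
    exact not_isSolvable_slTwo hp5 (Group.isSolvable_of_surjective
      (f := e.toMonoidHom.comp (QuotientGroup.mk' (K.subgroupOf H)))
      (e.surjective.comp (QuotientGroup.mk'_surjective _)))

/-- The Sylow `p`-subgroups of a simple minimal counterexample are elementary abelian. -/
theorem TwoGenMin.elementary_sylow [IsSimpleGroup G] (h : TwoGenMin G) (hp5 : 5 ≤ p)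
    (hdvd : p ∣ Nat.card G) (S : Sylow p G) : IsElementaryAbelian p (S : Subgroup G) := by
  set T := (S : Subgroup G) with hT
  set Z := omegaOne p (centerThompsonOf p T) with hZ
  have hTd : p ∣ Nat.card T := by
    refine ((hp.out.dvd_mul).1 ?_).resolve_right S.not_dvd_index
    rwa [Subgroup.card_mul_index]
  have hZel : IsElementaryAbelian p Z := by
    obtain ⟨A, hA⟩ := LocalP.exists_maxElemIn (p := p) T
    rw [hZ, GlaubermanZJ.omegaOne_centerThompsonOf_eq_sInf]
    exact LocalP.isElementaryAbelian_mono hA.2.1 (sInf_le hA)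
  have hle : centerThompsonOf p T ≤ T := inf_le_left.trans (LocalP.thompsonSubgroupOf_le T)
  have hne : Z ≠ ⊥ := by
    refine PGroup.omegaOne_ne_bot (S.2.to_le hle) fun hb => ?_
    have hJ := LocalP.thompsonSubgroup_ne_bot (p := p) (G := T) hTd
    haveI : Nontrivial (thompsonSubgroup p T) := (Subgroup.nontrivial_iff_ne_bot _).2 hJ
    haveI := (S.2.to_subgroup (thompsonSubgroup p T)).center_nontrivial
    obtain ⟨z, hz⟩ := exists_ne (1 : Subgroup.center (thompsonSubgroup p T))
    have hmem : (((z : thompsonSubgroup p T) : T) : G) ∈ centerThompsonOf p T := by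
      refine ⟨⟨_, (z : thompsonSubgroup p T).2, rfl⟩, Subgroup.mem_centralizer_iff.2 ?_⟩
      rintro _ ⟨j, hj, rfl⟩
      exact congrArg (fun x : thompsonSubgroup p T => ((x : T) : G))
        (Subgroup.mem_center_iff.1 z.2 ⟨j, hj⟩)
    rw [hb, Subgroup.mem_bot] at hmem
    exact hz (Subtype.ext (Subtype.ext (Subtype.ext hmem)))
  have hcl : ClosedData S Z := by
    refine closedData_of_abelian hp5 ((PGroup.omegaOne_le _).trans hle)
      (LocalP.isElementaryAbelian_iff.1 hZel).1 fun z hz g hg => ?_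
    obtain ⟨n, hn, hnz⟩ := Cfsg.Agent.S0118.result (p := p) (by omega) (h.sl_two_free hp5) S {z}
      (Set.singleton_subset_iff.2 ((PGroup.omegaOne_le _).trans hle hz)) g⁻¹
      (by rintro _ ⟨a, rfl, rfl⟩; rw [inv_inv]; exact hg)
    have h1 := hnz z rfl
    rw [inv_inv] at h1
    rw [← h1]
    have h2 : (omegaOne p (centerThompsonOf p T)).map (MulAut.conj n⁻¹).toMonoidHom =
        omegaOne p (centerThompsonOf p T) := by
      rw [PGroup.omegaOne_map _ (MulAut.conj n⁻¹).injective]
      congr 1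
      exact Subgroup.mem_normalizer_iff_map_conj_eq.1 (inv_mem hn)
    rw [hZ, ← h2]
    exact ⟨z, hz, by simp⟩
  rw [hT, ← eq_sylow_of_closedData h.pairs hcl hne]
  exact hZel

/-- The normalizer of an abelian Sylow subgroup of a simple minimal counterexample is irreducible
on it. -/
theorem TwoGenMin.eq_sylow_of_invariant [IsSimpleGroup G] (h : TwoGenMin G) (hp5 : 5 ≤ p)
    (S : Sylow p G) [IsMulCommutative (S : Subgroup G)] {Z : Subgroup G}
    (hle : Z ≤ (S : Subgroup G)) (hne : Z ≠ ⊥)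
    (hinv : ∀ n ∈ Subgroup.normalizer ((S : Subgroup G) : Set G), ∀ z ∈ Z, n * z * n⁻¹ ∈ Z) :
    Z = (S : Subgroup G) := by
  refine eq_sylow_of_closedData h.pairs (closedData_of_abelian hp5 hle (fun x hx y hy => ?_)
    fun z hz g hg => ?_) hne
  · exact congrArg Subtype.val (mul_comm' (⟨x, hle hx⟩ : (S : Subgroup G)) ⟨y, hle hy⟩)
  · obtain ⟨n, hn, he⟩ := S.conj_eq_normalizer_conj_of_mem z g⁻¹ (hle hz) (by rw [inv_inv]; exact hg)
    rw [inv_inv] at he
    rw [he]
    simpa using hinv n⁻¹ (inv_mem hn) z hz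

end CfsgLib.TwoGenSolv82
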